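import Cfsg.Agent.Lib.Intrinsic76.NoLift
import Mathlib

/-!
# A 2-element of `K` moving `J`: the two basic lemmas

Owner: helper76 (intrinsic SL₂-components).

`Ctx`: `y ∈ K` centralizes `zJ`, moves `J`, `y²` and `zK` normalize `J`, and `zK` acts non-trivially
on the image of `J` in `C(zJ) / O(C(zJ))`.
-/

set_option autoImplicit false
set_option linter.style.haveILetI false
open Cfsg

namespace Cfsg.Agent.Lib.Intrinsic76

open Components Balance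

variable {G : Type*} [Group G] [Finite G] {N : ℕ} {J K : Subgroup G} {zJ zK y : G}

local notation "R" => barS (Cen zJ) J
local notation "z" => bar (Cen zJ) zJ
local notation "Z" => bar (Cen zJ) zK
local notation "Y" => bar (Cen zJ) y

/-- The situation to be refuted for (i). -/
structure Ctx (N : ℕ) (J K : Subgroup G) (zJ zK y : G) : Prop where
  hJ : IP N zJ J
  hK : IP N zK K
  zne : zJ ≠ zK
  y_mem : y ∈ K
  y_two : Two y
  y_sq : y * y ≠ 1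
  y_comm : y * zJ = zJ * y
  y_move : y ∉ Subgroup.normalizer (J : Set G)
  y_sq_norm : y * y ∈ Subgroup.normalizer (J : Set G)
  zK_norm : zK ∈ Subgroup.normalizer (J : Set G)
  zK_pow : ∃ k : ℕ, zK = (y * y) ^ k
  zK_act : ∃ a ∈ barS (Cen zJ) J, bar (Cen zJ) zK * a ≠ a * bar (Cen zJ) zK

namespace Ctx

variable (c : Ctx N J K zJ zK y)
include c

theorem zK_comm : zK * zJ = zJ * zK := by
  obtain ⟨k, hk⟩ := c.zK_pow
  rw [hk]
  exact ((Commute.mul_left c.y_comm c.y_comm).pow_left k).eq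

theorem zK_y : zK * y = y * zK := by
  obtain ⟨k, hk⟩ := c.zK_pow
  rw [hk]
  exact ((Commute.mul_left (Commute.refl y) (Commute.refl y)).pow_left k).eq

theorem yJ : y ∈ Cen zJ := mem_Cen.2 c.y_comm
theorem zKJ : zK ∈ Cen zJ := mem_Cen.2 c.zK_comm
theorem zJK : zJ ∈ Cen zK := mem_Cen.2 c.zK_comm.symm
theorem yK : y ∈ Cen zK := c.hK.le c.y_mem

theorem move : J.map (MulAut.conj y).toMonoidHom ≠ J := fun h =>
  c.y_move (Subgroup.mem_normalizer_iff_map_conj_eq.2 h)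

theorem hJ' : IP N zJ (J.map (MulAut.conj y).toMonoidHom) := c.hJ.conj_fix c.yJ

theorem sig_mem {a : Qc (Cen zJ)} (ha : a ∈ R) :
    Y * a * Y⁻¹ ∈ barS (Cen zJ) (J.map (MulAut.conj y).toMonoidHom) := c.hJ.conj_bar_mem c.yJ ha

theorem comm {a b : Qc (Cen zJ)} (ha : a ∈ R) (hb : b ∈ R) : Commute a (Y * b * Y⁻¹) :=
  c.hJ.commute c.hJ' (Ne.symm c.move) ha (c.sig_mem hb)

theorem inter {a b : Qc (Cen zJ)} (ha : a ∈ R) (hb : b ∈ R) (h : Y * b * Y⁻¹ = a) :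
    a = 1 ∨ a = z :=
  c.hJ.inter c.hJ' (Ne.symm c.move) ha (h ▸ c.sig_mem hb)

theorem sig_ne {a : Qc (Cen zJ)} (ha : a ∈ R) (h1 : a ≠ 1) (hz : a ≠ z) : Y * a * Y⁻¹ ≠ a :=
  fun h => (c.inter ha ha h).elim h1 hz

theorem beta_mem {a : Qc (Cen zJ)} (ha : a ∈ R) : Y * (Y * a * Y⁻¹) * Y⁻¹ ∈ R := by
  have h := c.hJ.bar_conj_mem (mul_mem c.yJ c.yJ) c.y_sq_norm ha
  rw [bar_mul c.yJ c.yJ] at h
  rwa [show Y * (Y * a * Y⁻¹) * Y⁻¹ = Y * Y * a * (Y * Y)⁻¹ by group]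

theorem alpha_mem {a : Qc (Cen zJ)} (ha : a ∈ R) : Z * a * Z⁻¹ ∈ R :=
  c.hJ.bar_conj_mem c.zKJ c.zK_norm ha

theorem Z_sq : Z * Z = 1 := bar_mul_self c.zKJ c.hK.inv

theorem Z_inv : Z⁻¹ = Z := inv_eq_of_mul_eq_one_right c.Z_sq

theorem Z_Y : Commute Z Y := commute_bar c.zKJ c.yJ c.zK_y

/-- `Z` commutes with the conjugate by `Y` of anything it commutes with. -/
theorem Z_sig {a : Qc (Cen zJ)} (h : Commute Z a) : Commute Z (Y * a * Y⁻¹) :=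
  (c.Z_Y.mul_right h).mul_right c.Z_Y.inv_right

theorem y_four_of (h : bar (Cen zK) y * bar (Cen zK) y = 1 ∨
    bar (Cen zK) y * bar (Cen zK) y = bar (Cen zK) zK) : y ^ 4 = 1 := by
  have h4 : bar (Cen zK) (y ^ 4) = 1 := by
    rw [bar_pow c.yK, show (4 : ℕ) = 2 * 2 from rfl, pow_mul, pow_two, pow_two]
    rcases h with h | h <;> rw [h]
    · exact one_mul 1
    · exact c.hK.good.z_sq
  exact (oddEl_of_bar (pow_mem c.yK 4) h4).eq_one (c.y_two.pow 4)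

theorem zbar_notMem : bar (Cen zK) zJ ∉ barS (Cen zK) K := by
  intro h
  have h2 := bar_mul_self c.zJK c.hJ.inv
  rcases c.hK.good.uniq _ h h2 with h1 | h1
  · exact bar_ne_one_of_involution c.zJK c.hJ.inv c.hJ.ne h1
  · refine c.zne (eq_of_oddEl_mul c.hJ.inv c.hK.inv c.zK_comm.symm ?_)
    refine oddEl_of_bar (mul_mem c.zJK (self_mem_Cen zK)) ?_
    rw [bar_mul c.zJK (self_mem_Cen zK), h1, c.hK.good.z_sq]

/-- No element of `C(zJ, zK)` over `zJ` in `C(zJ)` has image in `K` in `C(zK)`. -/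
theorem no_over_zJ {m : G} (hm : m ∈ Cen zJ) (hmK : m ∈ Cen zK) (hb : bar (Cen zJ) m = z)
    (hR : bar (Cen zK) m ∈ barS (Cen zK) K) : False := by
  have h1 : OddEl (m * zJ⁻¹) := oddEl_of_bar_eq hm (self_mem_Cen zJ) hb
  obtain ⟨k, hk, hk1⟩ := oddEl_bar (C := Cen zK) (mul_mem hmK (inv_mem c.zJK)) h1
  rw [bar_mul hmK (inv_mem c.zJK), bar_inv c.zJK,
    inv_eq_of_mul_eq_one_right (bar_mul_self c.zJK c.hJ.inv)] at hk1
  have hcomm : Commute (bar (Cen zK) m) (bar (Cen zK) zJ) := commute_bar hmK c.zJK (mem_Cen.1 hm)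
  rw [hcomm.mul_pow, pow_odd_of_mul_self (bar_mul_self c.zJK c.hJ.inv) hk] at hk1
  refine c.zbar_notMem ?_
  rw [← inv_mem_iff]
  have h2 := pow_mem hR k
  rw [eq_inv_of_mul_eq_one_left hk1] at h2
  exact h2

/-- If `β g = g z`, a lift of `g gʸ e` centralizing `zK` moves `K`, sending the image of `y` to its
product with that of `zJ`; in particular `y⁴ = 1`. -/
theorem wLemma {g e : Qc (Cen zJ)} (hg : g ∈ R) (hβ : Y * (Y * g * Y⁻¹) * Y⁻¹ = g * z)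
    (he : e = 1 ∨ e = z) {w : G} (hw : w ∈ Cen zJ) (hwK : w ∈ Cen zK)
    (hwb : bar (Cen zJ) w = g * (Y * g * Y⁻¹) * e) :
    w ∉ Subgroup.normalizer (K : Set G) ∧
      bar (Cen zK) (w * y * w⁻¹) = bar (Cen zK) zJ * bar (Cen zK) y ∧ y ^ 4 = 1 := by
  have hec : ∀ q, Commute e q := by
    rcases he with rfl | rfl
    exacts [fun q => Commute.one_left q, bar_self_comm zJ]
  have hm : w * y * w⁻¹ * y⁻¹ ∈ Cen zJ := mul_mem (mul_mem (mul_mem hw c.yJ) (inv_mem hw)) (inv_mem c.yJ)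
  have hmK : w * y * w⁻¹ * y⁻¹ ∈ Cen zK := mul_mem (mul_mem (mul_mem hwK c.yK) (inv_mem hwK)) (inv_mem c.yK)
  have hb : bar (Cen zJ) (w * y * w⁻¹ * y⁻¹) = z := by
    rw [bar_comm hw c.yJ, hwb]
    have h1 : Y * (g * (Y * g * Y⁻¹)) * Y⁻¹ = g * (Y * g * Y⁻¹) * z := by
      calc Y * (g * (Y * g * Y⁻¹)) * Y⁻¹ = Y * g * Y⁻¹ * (Y * (Y * g * Y⁻¹) * Y⁻¹) := by group
        _ = (Y * g * Y⁻¹) * g * z := by rw [hβ]; group
        _ = _ := by rw [(c.comm hg hg).eq]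
    set q := g * (Y * g * Y⁻¹)
    calc q * e * Y * (q * e)⁻¹ * Y⁻¹ = q * (e * Y) * e⁻¹ * q⁻¹ * Y⁻¹ := by group
      _ = q * (Y * e) * e⁻¹ * q⁻¹ * Y⁻¹ := by rw [(hec Y).eq]
      _ = q * (Y * q * Y⁻¹)⁻¹ := by group
      _ = q * (q * z)⁻¹ := by rw [h1]
      _ = q * z⁻¹ * q⁻¹ := by group
      _ = q * (z * q⁻¹) := by rw [c.hJ.good.z_inv, mul_assoc]
      _ = z := by rw [bar_self_comm zJ, mul_inv_cancel_left]
  have hmove : w ∉ Subgroup.normalizer (K : Set G) := fun hn => by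
    refine c.no_over_zJ hm hmK hb ?_
    rw [bar_comm hwK c.yK]
    exact mul_mem (c.hK.bar_conj_mem hwK hn (c.hK.bar_mem c.y_mem)) (inv_mem (c.hK.bar_mem c.y_mem))
  have hne : K.map (MulAut.conj w).toMonoidHom ≠ K := fun h =>
    hmove (Subgroup.mem_normalizer_iff_map_conj_eq.2 h)
  have hY' := c.hK.conj_bar_mem hwK (c.hK.bar_mem c.y_mem)
  rw [← bar_conj hwK c.yK] at hY'
  have hcy : Commute (bar (Cen zK) y) (bar (Cen zK) (w * y * w⁻¹)) :=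
    c.hK.commute (c.hK.conj_fix hwK) (Ne.symm hne) (c.hK.bar_mem c.y_mem) hY'
  have hwyw : w * y * w⁻¹ ∈ Cen zK := mul_mem (mul_mem hwK c.yK) (inv_mem hwK)
  have hq : bar (Cen zK) (w * y * w⁻¹) = bar (Cen zK) zJ * bar (Cen zK) y := by
    have h1 := oddEl_bar (C := Cen zK) (mul_mem hmK (inv_mem c.zJK))
      (oddEl_of_bar_eq hm (self_mem_Cen zJ) hb)
    rw [bar_mul hmK (inv_mem c.zJK), bar_inv c.zJK, bar_mul hwyw (inv_mem c.yK), bar_inv c.yK] at h1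
    have hq2 : Two (bar (Cen zK) (w * y * w⁻¹) * (bar (Cen zK) y)⁻¹) :=
      (two_bar hwyw (c.y_two.conj w)).mul (two_bar c.yK c.y_two).inv hcy.symm.inv_right
    have hzy := commute_bar c.zJK c.yK c.y_comm.symm
    have hzw : Commute (bar (Cen zK) zJ) (bar (Cen zK) (w * y * w⁻¹)) :=
      commute_bar c.zJK hwyw (mem_Cen.1 (mul_mem (mul_mem hw c.yJ) (inv_mem hw))).symm
    have h2 := h1.eq_one (hq2.mul (two_bar c.zJK (two_of_mul_self c.hJ.inv)).inv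
      ((hzw.mul_right hzy.inv_right).symm.inv_right))
    exact mul_inv_eq_iff_eq_mul.1 (mul_inv_eq_one.1 h2)
  refine ⟨hmove, hq, c.y_four_of ?_⟩
  refine c.hK.inter (c.hK.conj_fix hwK) (Ne.symm hne) (mul_mem (c.hK.bar_mem c.y_mem) (c.hK.bar_mem c.y_mem)) ?_
  have h1 : bar (Cen zK) (w * y * w⁻¹) * bar (Cen zK) (w * y * w⁻¹) =
      bar (Cen zK) y * bar (Cen zK) y := by
    rw [hq, (commute_bar c.zJK c.yK c.y_comm.symm).symm.mul_mul_mul_comm, bar_mul_self c.zJK c.hJ.inv,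
      one_mul]
  rw [← h1]
  exact mul_mem hY' hY'

theorem wLift {g e : Qc (Cen zJ)} (hg : Commute Z (g * (Y * g * Y⁻¹) * e)) :
    ∃ w, w ∈ Cen zJ ∧ w ∈ Cen zK ∧ bar (Cen zJ) w = g * (Y * g * Y⁻¹) * e := by
  obtain ⟨w, h1, h2, h3⟩ := exists_lift_fixed c.zKJ c.hK.inv hg.symm.eq
  exact ⟨w, h1, mem_Cen.2 h2, h3⟩

theorem v0_sq {u : Qc (Cen zJ)} (hu : u ∈ R) (hu2 : u * u = z) :
    u * (Y * u⁻¹ * Y⁻¹) * (u * (Y * u⁻¹ * Y⁻¹)) = 1 ∧ u * (Y * u⁻¹ * Y⁻¹) ≠ 1 := by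
  refine ⟨?_, fun h => ?_⟩
  · rw [(c.comm hu (inv_mem hu)).symm.mul_mul_mul_comm, hu2,
      show Y * u⁻¹ * Y⁻¹ * (Y * u⁻¹ * Y⁻¹) = Y * (u * u)⁻¹ * Y⁻¹ by group, hu2, c.hJ.good.z_inv,
      (bar_self_comm zJ Y).symm, mul_inv_cancel_right, c.hJ.good.z_sq]
  · refine c.sig_ne hu (c.hJ.good.sq_ne_one hu2).1 (c.hJ.good.sq_ne_one hu2).2 ?_
    rw [mul_eq_one_iff_eq_inv] at h
    conv_rhs => rw [h]
    group

/-- The elements fixed by `zK`: either `zK` is `u (uʸ)⁻¹` or `y⁴ = 1`. -/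
theorem uLemma {u : Qc (Cen zJ)} (hu : u ∈ R) (hu2 : u * u = z) (hα : Commute Z u) {v : G}
    (hv : v ∈ Cen zJ) (hvK : v ∈ Cen zK) (hvb : bar (Cen zJ) v = u) :
    (v ∈ Subgroup.normalizer (K : Set G) → Z = u * (Y * u⁻¹ * Y⁻¹)) ∧
      (v ∉ Subgroup.normalizer (K : Set G) → y ^ 4 = 1) := by
  have hm : v * y * v⁻¹ * y⁻¹ ∈ Cen zJ := mul_mem (mul_mem (mul_mem hv c.yJ) (inv_mem hv)) (inv_mem c.yJ)
  have hmK : v * y * v⁻¹ * y⁻¹ ∈ Cen zK := mul_mem (mul_mem (mul_mem hvK c.yK) (inv_mem hvK)) (inv_mem c.yK)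
  obtain ⟨hv0, hv1⟩ := c.v0_sq hu hu2
  have hb : bar (Cen zJ) (v * y * v⁻¹ * y⁻¹) = u * (Y * u⁻¹ * Y⁻¹) := by
    rw [bar_comm hv c.yJ, hvb]; group
  set m := v * y * v⁻¹ * y⁻¹ with hmdef
  have hmm : OddEl (bar (Cen zK) m * bar (Cen zK) m) := by
    rw [← bar_mul hmK hmK]
    refine oddEl_bar (mul_mem hmK hmK) (oddEl_of_bar (mul_mem hm hm) ?_)
    rw [bar_mul hm hm, hb, hv0]
  refine ⟨fun hn => ?_, fun hn => ?_⟩
  · have hmR : bar (Cen zK) m ∈ barS (Cen zK) K := by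
      rw [hmdef, bar_comm hvK c.yK]
      exact mul_mem (c.hK.bar_conj_mem hvK hn (c.hK.bar_mem c.y_mem)) (inv_mem (c.hK.bar_mem c.y_mem))
    obtain ⟨k, hk, hk1⟩ := hmm
    rw [(Commute.refl _).mul_pow, ← bar_pow hmK] at hk1
    rcases c.hK.good.uniq _ (bar_pow hmK k ▸ pow_mem hmR k) hk1 with h1 | h1
    · refine absurd ?_ hv1
      have h2 := oddEl_bar (C := Cen zJ) (pow_mem hm k) (oddEl_of_bar (pow_mem hmK k) h1)
      rw [bar_pow hm, hb, pow_odd_of_mul_self hv0 hk] at h2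
      exact h2.eq_one (two_of_mul_self hv0)
    · have h2 := oddEl_bar (C := Cen zJ) (mul_mem (pow_mem hm k) (inv_mem c.zKJ))
        (oddEl_of_bar_eq (pow_mem hmK k) (self_mem_Cen zK) h1)
      rw [bar_mul (pow_mem hm k) (inv_mem c.zKJ), bar_inv c.zKJ, c.Z_inv, bar_pow hm, hb,
        pow_odd_of_mul_self hv0 hk] at h2
      refine (eq_of_oddEl_mul hv0 c.Z_sq ?_ h2).symm
      exact (hα.mul_right (c.Z_sig hα.inv_right)).symm
  · have hne : K.map (MulAut.conj v).toMonoidHom ≠ K := fun h =>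
      hn (Subgroup.mem_normalizer_iff_map_conj_eq.2 h)
    have hY' := c.hK.conj_bar_mem hvK (c.hK.bar_mem c.y_mem)
    rw [← bar_conj hvK c.yK] at hY'
    have hcy : Commute (bar (Cen zK) (v * y * v⁻¹)) (bar (Cen zK) y)⁻¹ :=
      (c.hK.commute (c.hK.conj_fix hvK) (Ne.symm hne) (c.hK.bar_mem c.y_mem) hY').symm.inv_right
    have hvyv : v * y * v⁻¹ ∈ Cen zK := mul_mem (mul_mem hvK c.yK) (inv_mem hvK)
    rw [hmdef, bar_mul hvyv (inv_mem c.yK), bar_inv c.yK] at hmm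
    have h2 : Two (bar (Cen zK) (v * y * v⁻¹) * (bar (Cen zK) y)⁻¹) :=
      (two_bar hvyv (c.y_two.conj v)).mul (two_bar c.yK c.y_two).inv hcy
    have h3 := hmm.eq_one (h2.mul h2 (Commute.refl _))
    rw [hcy.symm.mul_mul_mul_comm, ← mul_inv_rev, mul_inv_eq_one] at h3
    refine c.y_four_of (c.hK.inter (c.hK.conj_fix hvK) (Ne.symm hne)
      (mul_mem (c.hK.bar_mem c.y_mem) (c.hK.bar_mem c.y_mem)) ?_)
    rw [← h3]
    exact mul_mem hY' hY'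

end Ctx

end Cfsg.Agent.Lib.Intrinsic76
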