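import Cfsg.Prelude.Def_Local
import Cfsg.Agent.Lib.Cores.Basic
import Cfsg.Agent.Lib.Balance.Basic
import Mathlib

/-!
# Involutions, odd elements, and images modulo the core of a subgroup

Owner: helper76 (intrinsic SL₂-components).
-/

set_option autoImplicit false
set_option linter.style.haveILetI false
open Cfsg

namespace Cfsg.Agent.Lib.Intrinsic76

open Balance

/-- An element of 2-power order. -/
def Two {H : Type*} [Monoid H] (g : H) : Prop := ∃ i : ℕ, g ^ (2 ^ i) = 1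

/-- An element of odd order. -/
def OddEl {H : Type*} [Monoid H] (g : H) : Prop := ∃ k : ℕ, Odd k ∧ g ^ k = 1

section Elements

variable {H H' : Type*} [Group H] [Group H']

theorem two_one : Two (1 : H) := ⟨0, one_pow _⟩

theorem two_of_mul_self {g : H} (h : g * g = 1) : Two g := ⟨1, by rw [pow_one, pow_two, h]⟩

theorem two_of_sq {g : H} (h : Two (g * g)) : Two g := by
  obtain ⟨i, hi⟩ := h
  exact ⟨i + 1, by rw [pow_succ', pow_mul, pow_two, hi]⟩

theorem Two.map {F : Type*} [FunLike F H H'] [MonoidHomClass F H H'] (f : F) {g : H} (h : Two g) :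
    Two (f g) := by
  obtain ⟨i, hi⟩ := h
  exact ⟨i, by rw [← map_pow, hi, _root_.map_one]⟩

theorem OddEl.map {F : Type*} [FunLike F H H'] [MonoidHomClass F H H'] (f : F) {g : H}
    (h : OddEl g) : OddEl (f g) := by
  obtain ⟨k, hk, hk'⟩ := h
  exact ⟨k, hk, by rw [← map_pow, hk', _root_.map_one]⟩

theorem Two.inv {g : H} (h : Two g) : Two g⁻¹ := by
  obtain ⟨i, hi⟩ := h
  exact ⟨i, by rw [inv_pow, hi, inv_one]⟩

theorem Two.pow {g : H} (h : Two g) (n : ℕ) : Two (g ^ n) := by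
  obtain ⟨i, hi⟩ := h
  exact ⟨i, by rw [← pow_mul, mul_comm, pow_mul, hi, one_pow]⟩

theorem Two.conj {g : H} (h : Two g) (x : H) : Two (x * g * x⁻¹) := by
  obtain ⟨i, hi⟩ := h
  exact ⟨i, by rw [conj_pow, hi, mul_one, mul_inv_cancel]⟩

theorem Two.mul {a b : H} (ha : Two a) (hb : Two b) (hab : Commute a b) : Two (a * b) := by
  obtain ⟨i, hi⟩ := ha
  obtain ⟨j, hj⟩ := hb
  refine ⟨i + j, ?_⟩
  rw [hab.mul_pow, pow_add, pow_mul, hi, one_pow, mul_comm (2 ^ i), pow_mul, hj, one_pow, one_mul]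

theorem OddEl.inv {g : H} (h : OddEl g) : OddEl g⁻¹ := by
  obtain ⟨k, hk, hk'⟩ := h
  exact ⟨k, hk, by rw [inv_pow, hk', inv_one]⟩

theorem OddEl.pow {g : H} (h : OddEl g) (n : ℕ) : OddEl (g ^ n) := by
  obtain ⟨k, hk, hk'⟩ := h
  exact ⟨k, hk, by rw [← pow_mul, mul_comm, pow_mul, hk', one_pow]⟩

theorem OddEl.eq_one {g : H} (h : OddEl g) (h' : Two g) : g = 1 := by
  obtain ⟨k, hk, hk'⟩ := h
  obtain ⟨i, hi⟩ := h'
  rw [← orderOf_eq_one_iff]
  refine Nat.eq_one_of_dvd_coprimes ?_ (orderOf_dvd_of_pow_eq_one hk') (orderOf_dvd_of_pow_eq_one hi)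
  exact (Nat.coprime_two_right.2 hk).pow_right i

theorem oddEl_of_mem {N : Subgroup H} (hN : Odd (Nat.card N)) {g : H} (hg : g ∈ N) : OddEl g :=
  ⟨Nat.card N, hN, by
    have h := pow_card_eq_one' (x := (⟨g, hg⟩ : ↥N))
    have h' := congrArg Subtype.val h
    rwa [SubmonoidClass.coe_pow, OneMemClass.coe_one] at h'⟩

theorem pow_odd_of_mul_self {g : H} (h : g * g = 1) {k : ℕ} (hk : Odd k) : g ^ k = g := by
  obtain ⟨l, rfl⟩ := hk
  rw [pow_succ, pow_mul, pow_two, h, one_pow, one_mul]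

/-- Some odd power of an element of a finite group has 2-power order. -/
theorem exists_odd_pow [Finite H] (g : H) : ∃ k : ℕ, Odd k ∧ Two (g ^ k) := by
  have hpos : orderOf g ≠ 0 := (orderOf_pos g).ne'
  obtain ⟨i, k, hk, he⟩ := Nat.exists_eq_two_pow_mul_odd hpos
  exact ⟨k, hk, i, by rw [← pow_mul, mul_comm, ← he, pow_orderOf_eq_one]⟩

theorem two_of_isPGroup {y : H} (h : IsPGroup 2 ↥(Subgroup.zpowers y)) : Two y := by
  obtain ⟨i, hi⟩ := h ⟨y, Subgroup.mem_zpowers y⟩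
  exact ⟨i, by simpa using congrArg Subtype.val hi⟩

theorem Two.isPGroup {y : H} (h : Two y) : IsPGroup 2 ↥(Subgroup.zpowers y) := by
  obtain ⟨i, hi⟩ := h
  rintro ⟨g, hg⟩
  obtain ⟨n, rfl⟩ := Subgroup.mem_zpowers_iff.1 hg
  refine ⟨i, Subtype.ext ?_⟩
  simp only [SubmonoidClass.coe_pow, OneMemClass.coe_one]
  rw [← zpow_natCast, ← zpow_mul, mul_comm, zpow_mul, zpow_natCast, hi, one_zpow]

theorem orderOf_two {t : H} (h : orderOf t = 2) : t * t = 1 ∧ t ≠ 1 := by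
  refine ⟨by rw [← pow_two, ← h, pow_orderOf_eq_one], fun h1 => ?_⟩
  rw [h1, orderOf_one] at h
  exact absurd h (by norm_num)

/-- Two involutions whose product has odd order are conjugate by an element centralizing whatever
centralizes both. -/
theorem exists_conj {N : Subgroup H} (hN : Odd (Nat.card N)) {a b : H} (ha : a * a = 1)
    (hb : b * b = 1) (hab : a * b ∈ N) :
    ∃ o ∈ N, o * a * o⁻¹ = b ∧ ∀ c : H, Commute c a → Commute c b → Commute c o := by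
  obtain ⟨k, hk, hk'⟩ := oddEl_of_mem hN hab
  obtain ⟨l, rfl⟩ := hk
  have hai : a⁻¹ = a := inv_eq_of_mul_eq_one_right ha
  have hbi : b⁻¹ = b := inv_eq_of_mul_eq_one_right hb
  set d := a * b with hd
  have hda : a * d * a⁻¹ = d⁻¹ := by
    rw [hd, mul_inv_rev, hbi, hai, ← mul_assoc, ha, one_mul]
  have hconj : a * (d ^ l)⁻¹ * a⁻¹ = d ^ l := by
    rw [← inv_pow, ← conj_pow]
    congr 1
    rw [show a * d⁻¹ * a⁻¹ = (a * d * a⁻¹)⁻¹ by group, hda, inv_inv]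
  refine ⟨d ^ l, pow_mem hab l, ?_, fun c h1 h2 => ((h1.mul_right h2)).pow_right l⟩
  have h2 : a * (d ^ l)⁻¹ = d ^ l * a := by
    calc a * (d ^ l)⁻¹ = a * (d ^ l)⁻¹ * a⁻¹ * a := by rw [inv_mul_cancel_right]
      _ = d ^ l * a := by rw [hconj]
  calc d ^ l * a * (d ^ l)⁻¹ = d ^ l * (a * (d ^ l)⁻¹) := by rw [mul_assoc]
    _ = d ^ (2 * l) * a := by rw [h2, ← mul_assoc, ← pow_add, two_mul]
    _ = d⁻¹ * a := by
        have : d ^ (2 * l) = d⁻¹ := eq_inv_of_mul_eq_one_left (by rw [← pow_succ]; exact hk')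
        rw [this]
    _ = b := by rw [hd, mul_inv_rev, hbi, hai, mul_assoc, ha, mul_one]

/-- Commuting involutions with product of odd order are equal. -/
theorem eq_of_oddEl_mul {a b : H} (ha : a * a = 1) (hb : b * b = 1) (hab : Commute a b)
    (h : OddEl (a * b)) : a = b := by
  have h2 : Two (a * b) := (two_of_mul_self ha).mul (two_of_mul_self hb) hab
  rw [mul_eq_one_iff_eq_inv.1 (h.eq_one h2)]
  exact inv_eq_of_mul_eq_one_right hb

end Elements

variable {G : Type*} [Group G]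

/-- The quotient of a subgroup by its odd core. -/
abbrev Qc (C : Subgroup G) := ↥C ⧸ pPrimeCore 2 ↥C

open Classical in
/-- The image of an element in `C / O(C)`, extended by `1` outside `C`. -/
noncomputable def bar (C : Subgroup G) (g : G) : Qc C :=
  if h : g ∈ C then QuotientGroup.mk (⟨g, h⟩ : ↥C) else 1

/-- The centralizer of an element. -/
abbrev Cen (t : G) : Subgroup G := Subgroup.centralizer ({t} : Set G)

theorem mem_Cen {g t : G} : g ∈ Cen t ↔ g * t = t * g := Subgroup.mem_centralizer_singleton_iff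

theorem self_mem_Cen (t : G) : t ∈ Cen t := mem_Cen.2 rfl

section Bar

variable {C : Subgroup G} {a b : G}

theorem bar_of_mem (h : a ∈ C) :
    bar C a = QuotientGroup.mk' (pPrimeCore 2 ↥C) ⟨a, h⟩ := dif_pos h

theorem bar_coe (a : ↥C) : bar C (a : G) = QuotientGroup.mk' (pPrimeCore 2 ↥C) a :=
  bar_of_mem a.2

theorem bar_mul (ha : a ∈ C) (hb : b ∈ C) : bar C (a * b) = bar C a * bar C b := by
  rw [bar_of_mem ha, bar_of_mem hb, bar_of_mem (mul_mem ha hb), ← map_mul]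
  rfl

theorem bar_one : bar C (1 : G) = 1 := by
  rw [bar_of_mem C.one_mem]
  exact _root_.map_one _

theorem bar_inv (ha : a ∈ C) : bar C a⁻¹ = (bar C a)⁻¹ := by
  rw [bar_of_mem ha, bar_of_mem (inv_mem ha), ← map_inv]
  rfl

theorem bar_pow (ha : a ∈ C) (n : ℕ) : bar C (a ^ n) = bar C a ^ n := by
  rw [bar_of_mem ha, bar_of_mem (pow_mem ha n), ← map_pow]
  rfl

theorem bar_conj (ha : a ∈ C) (hb : b ∈ C) :
    bar C (a * b * a⁻¹) = bar C a * bar C b * (bar C a)⁻¹ := by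
  rw [bar_mul (mul_mem ha hb) (inv_mem ha), bar_mul ha hb, bar_inv ha]

theorem bar_comm (ha : a ∈ C) (hb : b ∈ C) :
    bar C (a * b * a⁻¹ * b⁻¹) = bar C a * bar C b * (bar C a)⁻¹ * (bar C b)⁻¹ := by
  rw [bar_mul (mul_mem (mul_mem ha hb) (inv_mem ha)) (inv_mem hb), bar_conj ha hb, bar_inv hb]

theorem bar_mul_self (ha : a ∈ C) (h : a * a = 1) : bar C a * bar C a = 1 := by
  rw [← bar_mul ha ha, h, bar_one]

theorem commute_bar (ha : a ∈ C) (hb : b ∈ C) (h : a * b = b * a) :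
    Commute (bar C a) (bar C b) := by
  show _ = _
  rw [← bar_mul ha hb, ← bar_mul hb ha, h]

theorem two_bar (ha : a ∈ C) (h : Two a) : Two (bar C a) := by
  obtain ⟨i, hi⟩ := h
  exact ⟨i, by rw [← bar_pow ha, hi, bar_one]⟩

theorem oddEl_bar (ha : a ∈ C) (h : OddEl a) : OddEl (bar C a) := by
  obtain ⟨k, hk, hk'⟩ := h
  exact ⟨k, hk, by rw [← bar_pow ha, hk', bar_one]⟩

theorem bar_surjective (q : Qc C) : ∃ a ∈ C, bar C a = q := by
  obtain ⟨⟨a, ha⟩, rfl⟩ := QuotientGroup.mk'_surjective _ q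
  exact ⟨a, ha, bar_of_mem ha⟩

theorem bar_eq_one_iff (ha : a ∈ C) : bar C a = 1 ↔ a ∈ coreIn 2 C := by
  rw [bar_of_mem ha, QuotientGroup.mk'_apply, QuotientGroup.eq_one_iff]
  exact ⟨fun h => ⟨⟨a, ha⟩, h, rfl⟩, fun ⟨b, hb, hba⟩ => (Subtype.ext hba : b = ⟨a, ha⟩) ▸ hb⟩

theorem bar_eq_iff (ha : a ∈ C) (hb : b ∈ C) :
    bar C a = bar C b ↔ a * b⁻¹ ∈ coreIn 2 C := by
  rw [← bar_eq_one_iff (mul_mem ha (inv_mem hb)), bar_mul ha (inv_mem hb), bar_inv hb,
    mul_inv_eq_one]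

theorem bar_of_mem_core (h : a ∈ coreIn 2 C) : bar C a = 1 :=
  (bar_eq_one_iff (coreIn_le C h)).2 h

variable [Finite G]

theorem odd_core (C : Subgroup G) : Odd (Nat.card ↥(coreIn 2 C)) :=
  Nat.coprime_two_right.1 (coreIn_coprime C)

theorem oddEl_of_bar (ha : a ∈ C) (h : bar C a = 1) : OddEl a :=
  oddEl_of_mem (odd_core C) ((bar_eq_one_iff ha).1 h)

theorem oddEl_of_bar_eq (ha : a ∈ C) (hb : b ∈ C) (h : bar C a = bar C b) :
    OddEl (a * b⁻¹) :=
  oddEl_of_mem (odd_core C) ((bar_eq_iff ha hb).1 h)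

/-- A relation modulo `O(C)` between elements of `H ≤ C` holds modulo `O(H)`. -/
theorem bar_eq_one_of_le {H : Subgroup G} (hHC : H ≤ C) (ha : a ∈ H) (h : bar C a = 1) :
    bar H a = 1 := by
  rw [bar_of_mem ha, QuotientGroup.mk'_apply, QuotientGroup.eq_one_iff]
  haveI : ((pPrimeCore 2 ↥C).comap (Subgroup.inclusion hHC)).Normal := inferInstance
  refine Cores.le_pPrimeCore (N := (pPrimeCore 2 ↥C).comap (Subgroup.inclusion hHC)) ?_ ?_
  · refine (Cores.pPrimeCore_coprime (G := ↥C) 2).coprime_dvd_left ?_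
    exact Subgroup.card_comap_dvd_of_injective _ _ (Subgroup.inclusion_injective hHC)
  · rw [bar_of_mem (hHC ha), QuotientGroup.mk'_apply, QuotientGroup.eq_one_iff] at h
    exact h

theorem bar_eq_of_le {H : Subgroup G} (hHC : H ≤ C) (ha : a ∈ H) (hb : b ∈ H)
    (h : bar C a = bar C b) : bar H a = bar H b := by
  have h1 : bar C (a * b⁻¹) = 1 := by
    rw [bar_mul (hHC ha) (inv_mem (hHC hb)), bar_inv (hHC hb), h, mul_inv_cancel]
  have h2 := bar_eq_one_of_le hHC (mul_mem ha (inv_mem hb)) h1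
  rwa [bar_mul ha (inv_mem hb), bar_inv hb, mul_inv_eq_one] at h2

theorem bar_ne_one_of_involution (ha : a ∈ C) (h2 : a * a = 1) (h1 : a ≠ 1) : bar C a ≠ 1 :=
  fun h => h1 ((oddEl_of_bar ha h).eq_one (two_of_mul_self h2))

/-- Fixed elements of an involution lift. -/
theorem exists_lift_fixed {s : G} (hs : s ∈ C) (hs2 : s * s = 1) {q : Qc C}
    (hq : q * bar C s = bar C s * q) :
    ∃ a ∈ C, a * s = s * a ∧ bar C a = q := by
  obtain ⟨h, hh, rfl⟩ := bar_surjective q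
  have hsi : s⁻¹ = s := inv_eq_of_mul_eq_one_right hs2
  have hb : bar C (h * s * h⁻¹ * s) = 1 := by
    rw [bar_mul (mul_mem (mul_mem hh hs) (inv_mem hh)) hs, bar_conj hh hs, hq,
      mul_inv_cancel_right, bar_mul_self hs hs2]
  obtain ⟨o, ho, hoe, -⟩ := exists_conj (odd_core C)
    (a := h * s * h⁻¹) (b := s) (by
      calc h * s * h⁻¹ * (h * s * h⁻¹) = h * (s * s) * h⁻¹ := by group
        _ = 1 := by rw [hs2, mul_one, mul_inv_cancel]) hs2
    ((bar_eq_one_iff (mul_mem (mul_mem (mul_mem hh hs) (inv_mem hh)) hs)).1 hb)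
  refine ⟨o * h, mul_mem (coreIn_le C ho) hh, ?_, ?_⟩
  · calc o * h * s = o * (h * s * h⁻¹) * o⁻¹ * (o * h) := by group
      _ = s * (o * h) := by rw [hoe]
  · rw [bar_mul (coreIn_le C ho) hh, bar_of_mem_core ho, one_mul]

/-- An involution of the quotient commuting with the image of `s` lifts to an involution
commuting with `s`. -/
theorem exists_lift_involution {s : G} (hs : s ∈ C) (hs2 : s * s = 1) {q : Qc C}
    (hq : q * bar C s = bar C s * q) (hq2 : q * q = 1) :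
    ∃ a ∈ C, a * s = s * a ∧ bar C a = q ∧ a * a = 1 := by
  obtain ⟨a, ha, has, haq⟩ := exists_lift_fixed hs hs2 hq
  obtain ⟨k, hk, hk2⟩ := exists_odd_pow a
  refine ⟨a ^ k, pow_mem ha k, (Commute.pow_left has k).eq, ?_, ?_⟩
  · rw [bar_pow ha, haq, pow_odd_of_mul_self hq2 hk]
  · have h2 : Two (a ^ k * a ^ k) := hk2.mul hk2 (Commute.refl _)
    refine (oddEl_of_bar (mul_mem (pow_mem ha k) (pow_mem ha k)) ?_).eq_one h2
    rw [bar_mul (pow_mem ha k) (pow_mem ha k), bar_pow ha, haq, pow_odd_of_mul_self hq2 hk, hq2]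

/-- An element of the quotient carrying an involution to another lifts to an element carrying one
chosen lift to the other. -/
theorem exists_lift_conj {a b : G} (ha : a ∈ C) (hb : b ∈ C) (ha2 : a * a = 1) (hb2 : b * b = 1)
    {q : Qc C} (hq : q * bar C a * q⁻¹ = bar C b) :
    ∃ h ∈ C, h * a * h⁻¹ = b ∧ bar C h = q := by
  obtain ⟨h, hh, rfl⟩ := bar_surjective q
  obtain ⟨o, ho, hoe, -⟩ := exists_conj (odd_core C) (a := h * a * h⁻¹) (b := b) (by
    calc h * a * h⁻¹ * (h * a * h⁻¹) = h * (a * a) * h⁻¹ := by group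
      _ = 1 := by rw [ha2, mul_one, mul_inv_cancel]) hb2 (by
    refine (bar_eq_one_iff (mul_mem (mul_mem (mul_mem hh ha) (inv_mem hh)) hb)).1 ?_
    rw [bar_mul (mul_mem (mul_mem hh ha) (inv_mem hh)) hb, bar_conj hh ha, hq, bar_mul_self hb hb2])
  refine ⟨o * h, mul_mem (coreIn_le C ho) hh, ?_, ?_⟩
  · rw [← hoe]; group
  · rw [bar_mul (coreIn_le C ho) hh, bar_of_mem_core ho, one_mul]

/-- The same for two commuting pairs of involutions. -/
theorem exists_lift_conj₂ {a₁ a₂ b₁ b₂ : G} (ha₁ : a₁ ∈ C) (ha₂ : a₂ ∈ C) (hb₁ : b₁ ∈ C)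
    (hb₂ : b₂ ∈ C) (ha₁' : a₁ * a₁ = 1) (ha₂' : a₂ * a₂ = 1) (hb₁' : b₁ * b₁ = 1)
    (hb₂' : b₂ * b₂ = 1) (hca : Commute a₁ a₂) (hcb : Commute b₁ b₂) {q : Qc C}
    (hq₁ : q * bar C a₁ * q⁻¹ = bar C b₁) (hq₂ : q * bar C a₂ * q⁻¹ = bar C b₂) :
    ∃ h ∈ C, h * a₁ * h⁻¹ = b₁ ∧ h * a₂ * h⁻¹ = b₂ ∧ bar C h = q := by
  obtain ⟨h, hh, he, hhq⟩ := exists_lift_conj ha₁ hb₁ ha₁' hb₁' hq₁
  obtain ⟨o, ho, hoe, hoc⟩ := exists_conj (odd_core C) (a := h * a₂ * h⁻¹) (b := b₂) (by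
    calc h * a₂ * h⁻¹ * (h * a₂ * h⁻¹) = h * (a₂ * a₂) * h⁻¹ := by group
      _ = 1 := by rw [ha₂', mul_one, mul_inv_cancel]) hb₂' (by
    refine (bar_eq_one_iff (mul_mem (mul_mem (mul_mem hh ha₂) (inv_mem hh)) hb₂)).1 ?_
    rw [bar_mul (mul_mem (mul_mem hh ha₂) (inv_mem hh)) hb₂, bar_conj hh ha₂, hhq, hq₂,
      bar_mul_self hb₂ hb₂'])
  have hb1a : Commute b₁ (h * a₂ * h⁻¹) := by
    show b₁ * (h * a₂ * h⁻¹) = h * a₂ * h⁻¹ * b₁
    rw [← he]
    calc h * a₁ * h⁻¹ * (h * a₂ * h⁻¹) = h * (a₁ * a₂) * h⁻¹ := by group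
      _ = h * (a₂ * a₁) * h⁻¹ := by rw [hca.eq]
      _ = h * a₂ * h⁻¹ * (h * a₁ * h⁻¹) := by group
  have hob : Commute b₁ o := hoc b₁ hb1a hcb
  refine ⟨o * h, mul_mem (coreIn_le C ho) hh, ?_, ?_, ?_⟩
  · calc o * h * a₁ * (o * h)⁻¹ = o * (h * a₁ * h⁻¹) * o⁻¹ := by group
      _ = o * b₁ * o⁻¹ := by rw [he]
      _ = b₁ := by rw [← hob.eq, mul_inv_cancel_right]
  · rw [← hoe]; group
  · rw [bar_mul (coreIn_le C ho) hh, bar_of_mem_core ho, one_mul, hhq]

end Bar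

end Cfsg.Agent.Lib.Intrinsic76
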