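import Cfsg.Agent.Lib.Intrinsic76.OrderFour
import Mathlib

/-!
# The contradiction in order 4

Owner: helper76 (intrinsic SL₂-components).
-/

set_option autoImplicit false
set_option linter.style.haveILetI false
open Cfsg

namespace Cfsg.Agent.Lib.Intrinsic76

open Components Balance

variable {G : Type*} [Group G] [Finite G] {N : ℕ} {J K : Subgroup G} {zJ zK y : G}

local notation "R" => barS (Cen zJ) J
local notation "z" => bar (Cen zJ) zJ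
local notation "Z" => bar (Cen zJ) zK
local notation "Y" => bar (Cen zJ) y

theorem commute_conj_of {a b : G} (g : G) (h : a * b = b * a) :
    g * a * g⁻¹ * (g * b * g⁻¹) = g * b * g⁻¹ * (g * a * g⁻¹) := by
  calc g * a * g⁻¹ * (g * b * g⁻¹) = g * (a * b) * g⁻¹ := by group
    _ = g * (b * a) * g⁻¹ := by rw [h]
    _ = _ := by group

namespace Ctx

variable (c : Ctx N J K zJ zK y)
include c

theorem x_Z {x : Qc (Cen zJ)} (hα : Z * x * Z⁻¹ = x * z) : x * Z * x⁻¹ = z * Z := by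
  have h1 : Z * x⁻¹ * Z⁻¹ = z * x⁻¹ := by
    rw [show Z * x⁻¹ * Z⁻¹ = (Z * x * Z⁻¹)⁻¹ by group, hα, mul_inv_rev, c.hJ.good.z_inv]
  calc x * Z * x⁻¹ = x * (Z * x⁻¹ * Z⁻¹) * Z := by group
    _ = x * (x⁻¹ * z) * Z := by rw [h1, bar_self_comm zJ x⁻¹]
    _ = z * Z := by rw [mul_inv_cancel_left]

/-- `Z` fixes some square root of `z`. -/
theorem exists_u {x : Qc (Cen zJ)} (hx : x ∈ R) (hx2 : x * x = z) (hα : Z * x * Z⁻¹ = x * z) :
    ∃ u ∈ R, u * u = z ∧ Commute Z u := by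
  have hcomm := c.pair_comm hα 1 (Or.inl rfl)
  obtain ⟨w, hw, hwK', hwb, hw2⟩ :=
    exists_lift_involution c.zKJ c.hK.inv hcomm.symm.eq (c.pair_sq hx hx2 (Or.inl rfl))
  have hwK : w ∈ Cen zK := mem_Cen.2 hwK'
  obtain ⟨hwn, hy', -⟩ := c.wLemma hx (by rw [c.beta_eq, hα]) (Or.inl rfl) hw hwK hwb
  rw [mul_one] at hwb
  -- in `C(zK)`
  set Yk := bar (Cen zK) y with hYk
  set zk := bar (Cen zK) zJ with hzk
  set Zk := bar (Cen zK) zK with hZk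
  set S := barS (Cen zK) K with hS
  have hYkS : Yk ∈ S := c.hK.bar_mem c.y_mem
  have hYk2 : Yk * Yk = Zk := by rw [hYk, ← bar_mul c.yK c.yK, ← c.zK_eq]
  obtain ⟨k, hk, hk2, hkY⟩ := c.hK.good.anti Yk hYkS hYk2
  have hKw := c.hK.conj_fix hwK
  have hwne : K.map (MulAut.conj w).toMonoidHom ≠ K := fun h =>
    hwn (Subgroup.mem_normalizer_iff_map_conj_eq.2 h)
  set W := bar (Cen zK) w with hW
  have hWW : W * W = 1 := bar_mul_self hwK hw2
  have hWi : W⁻¹ = W := inv_eq_of_mul_eq_one_right hWW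
  have hY'W : W * Yk * W⁻¹ = zk * Yk := by rw [hW, hYk, ← bar_conj hwK c.yK]; exact hy'
  have hzY : Commute zk Yk := commute_bar c.zJK c.yK c.y_comm.symm
  have hzk2 : zk * zk = 1 := bar_mul_self c.zJK c.hJ.inv
  have hY'S : zk * Yk ∈ barS (Cen zK) (K.map (MulAut.conj w).toMonoidHom) := by
    rw [← hY'W]; exact c.hK.conj_bar_mem hwK hYkS
  have hkY' : Commute k (zk * Yk) := c.hK.commute hKw (Ne.symm hwne) hk hY'S
  have hkz : k * zk * k⁻¹ = zk * Zk := by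
    calc k * zk * k⁻¹ = k * (zk * Yk) * k⁻¹ * (k * Yk * k⁻¹)⁻¹ := by group
      _ = zk * Yk * Yk⁻¹⁻¹ := by rw [hkY'.eq, mul_inv_cancel_right, hkY]
      _ = zk * Zk := by rw [inv_inv, mul_assoc, hYk2]
  set z3 := zJ * zK with hz3
  have hz3J : z3 ∈ Cen zJ := mul_mem (self_mem_Cen zJ) c.zKJ
  have hz3K : z3 ∈ Cen zK := mul_mem c.zJK (self_mem_Cen zK)
  have hz32 : z3 * z3 = 1 := by
    rw [hz3, (show Commute zK zJ from c.zK_comm).mul_mul_mul_comm, c.hJ.inv, c.hK.inv, one_mul]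
  obtain ⟨kt, hkt, hktz, hktb⟩ := exists_lift_conj (C := Cen zK) (q := k) c.zJK hz3K c.hJ.inv hz32
    (by rw [hkz, hz3, bar_mul c.zJK (self_mem_Cen zK)])
  obtain ⟨xt, hxt, hxtz, hxtb⟩ := exists_lift_conj (C := Cen zJ) (q := x) c.zKJ hz3J c.hK.inv hz32
    (by rw [c.x_Z hα, hz3, bar_mul (self_mem_Cen zJ) c.zKJ])
  set E := Cen zJ ⊓ Cen zK with hE
  have hE3 : E ≤ Cen z3 := fun a ha => mem_Cen.2 (by
    rw [hz3, ← mul_assoc, mem_Cen.1 ha.1, mul_assoc, mem_Cen.1 ha.2, mul_assoc])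
  set y3 := xt * y * xt⁻¹ with hy3
  have hy3J : y3 ∈ Cen zJ := mul_mem (mul_mem hxt c.yJ) (inv_mem hxt)
  have hy3E : y3 ∈ E := ⟨hy3J, mem_Cen.2 (by
    have h1 : y3 * z3 = z3 * y3 := by rw [← hxtz]; exact commute_conj_of xt c.zK_y.symm
    have h2 : zK = zJ * z3 := by rw [hz3, ← mul_assoc, c.hJ.inv, one_mul]
    rw [h2]
    exact ((show Commute y3 zJ from mem_Cen.1 hy3J).mul_right h1).eq)⟩
  set A := kt * w * kt⁻¹ with hA
  have hAK : A ∈ Cen zK := mul_mem (mul_mem hkt hwK) (inv_mem hkt)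
  have hAE : A ∈ E := ⟨mem_Cen.2 (by
    have h1 : A * z3 = z3 * A := by rw [← hktz]; exact commute_conj_of kt (mem_Cen.1 hw)
    have h2 : zJ = z3 * zK := by rw [hz3, mul_assoc, c.hK.inv, mul_one]
    rw [h2, ← mul_assoc, h1, mul_assoc, mem_Cen.1 hAK, ← mul_assoc]), hAK⟩
  set b := w * zJ * y with hb
  have hbE : b ∈ E := ⟨mul_mem (mul_mem hw (self_mem_Cen zJ)) c.yJ, mul_mem (mul_mem hwK c.zJK) c.yK⟩
  have hy3b : bar E y3 = bar E b := by
    refine bar_eq_of_le inf_le_left hy3E hbE ?_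
    rw [hy3, bar_conj hxt c.yJ, hxtb, hb, bar_mul (mul_mem hw (self_mem_Cen zJ)) c.yJ,
      bar_mul hw (self_mem_Cen zJ), hwb]
    calc x * Y * x⁻¹ = x * (Y * x⁻¹ * Y⁻¹) * Y := by group
      _ = x * (Y * x * Y⁻¹ * (Y * z * Y⁻¹)) * Y := by rw [c.hJ.good.inv_of_sq hx2]; group
      _ = _ := by rw [c.sig_z]; simp only [mul_assoc]
  have hcb : bar (Cen zK) (A * b * A⁻¹ * b⁻¹) = bar (Cen zK) z3 := by
    rw [bar_comm hAK hbE.2, hA, hb, bar_conj hkt hwK, hktb, bar_mul (mul_mem hwK c.zJK) c.yK,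
      bar_mul hwK c.zJK, hz3, bar_mul c.zJK (self_mem_Cen zK), ← hW, ← hzk, ← hYk, ← hZk]
    set k' := W * k * W⁻¹ with hk'
    have hk'S : k' ∈ barS (Cen zK) (K.map (MulAut.conj w).toMonoidHom) := c.hK.conj_bar_mem hwK hk
    have hkk' : Commute k k' := c.hK.commute hKw (Ne.symm hwne) hk hk'S
    have hA' : k * W * k⁻¹ = k * k'⁻¹ * W := by rw [hk']; group
    have hB : W * zk * Yk = Yk * W := by
      rw [mul_assoc, ← hY'W, hWi, show W * (W * Yk * W) = W * W * Yk * W by group, hWW, one_mul]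
    have hWY : W * Yk = zk * Yk * W := by rw [← hY'W, inv_mul_cancel_right]
    have hAY : k * W * k⁻¹ * Yk * (k * W * k⁻¹)⁻¹ = (zk * Yk)⁻¹ := by
      have hk'Y : k'⁻¹ * (zk * Yk) * k' = (zk * Yk)⁻¹ := by
        rw [hk', ← hY'W]
        have hki : k⁻¹ * Yk * k = Yk⁻¹ := by
          have h := congrArg (fun q => k⁻¹ * q⁻¹ * k) hkY
          simp only [inv_inv] at h
          rw [← h]; group
        calc (W * k * W⁻¹)⁻¹ * (W * Yk * W⁻¹) * (W * k * W⁻¹) = W * (k⁻¹ * Yk * k) * W⁻¹ := by group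
          _ = _ := by rw [hki]; group
      rw [hA']
      calc k * k'⁻¹ * W * Yk * (k * k'⁻¹ * W)⁻¹ = k * (k'⁻¹ * (W * Yk * W⁻¹) * k') * k⁻¹ := by group
        _ = k * (zk * Yk)⁻¹ * k⁻¹ := by rw [hY'W, hk'Y]
        _ = _ := by rw [(hkY'.inv_right).eq, mul_inv_cancel_right]
    have hk'2 : k' * k' = k * k := by
      rw [hk', show W * k * W⁻¹ * (W * k * W⁻¹) = W * (k * k) * W⁻¹ by group, hk2,
        ← bar_self_comm zK W, mul_inv_cancel_right]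
    have hWk' : W * k' = k * W := by
      calc W * k' = W * W * k * W⁻¹ := by rw [hk']; simp only [mul_assoc]
        _ = k * W := by rw [hWW, one_mul, hWi]
    have hAW : k * W * k⁻¹ * W * (k * W * k⁻¹)⁻¹ = W := by
      rw [hA']
      calc k * k'⁻¹ * W * W * (k * k'⁻¹ * W)⁻¹ = k * k'⁻¹ * (W * k') * k⁻¹ := by group
        _ = k * k'⁻¹ * (k * W * k⁻¹) := by rw [hWk']; simp only [mul_assoc]
        _ = k * k'⁻¹ * (k * k'⁻¹) * W := by rw [hA']; simp only [mul_assoc]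
        _ = _ := by
            rw [hkk'.inv_right.symm.mul_mul_mul_comm, ← mul_inv_rev, hk'2, mul_inv_cancel, one_mul]
    rw [hB]
    calc k * W * k⁻¹ * (Yk * W) * (k * W * k⁻¹)⁻¹ * (Yk * W)⁻¹
        = (k * W * k⁻¹ * Yk * (k * W * k⁻¹)⁻¹) * (k * W * k⁻¹ * W * (k * W * k⁻¹)⁻¹) * W⁻¹ * Yk⁻¹ := by
          group
      _ = (zk * Yk)⁻¹ * Yk⁻¹ := by rw [hAY, hAW, mul_inv_cancel_right]
      _ = (Yk * (zk * Yk))⁻¹ := by rw [mul_inv_rev Yk]
      _ = (zk * Zk)⁻¹ := by rw [← mul_assoc, ← hzY.eq, mul_assoc, hYk2]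
      _ = zk * Zk := inv_eq_of_mul_eq_one_right (by
          rw [(show Commute Zk zk from bar_self_comm zK zk).mul_mul_mul_comm, hzk2, c.hK.good.z_sq,
            one_mul])
  have hz3E : z3 ∈ E := ⟨hz3J, hz3K⟩
  have hz31 : z3 ≠ 1 := fun h => c.zne (by
    rw [← inv_eq_of_mul_eq_one_right c.hK.inv]; exact mul_eq_one_iff_eq_inv.1 h)
  have hAyE : A * y3 * A⁻¹ * y3⁻¹ ∈ E := mul_mem (mul_mem (mul_mem hAE hy3E) (inv_mem hAE)) (inv_mem hy3E)
  have hAbE : A * b * A⁻¹ * b⁻¹ ∈ E := mul_mem (mul_mem (mul_mem hAE hbE) (inv_mem hAE)) (inv_mem hbE)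
  have hne1 : bar E (A * y3 * A⁻¹ * y3⁻¹) ≠ 1 := by
    rw [bar_comm hAE hy3E, hy3b, ← bar_comm hAE hbE, bar_eq_of_le inf_le_right hAbE hz3E hcb]
    exact bar_ne_one_of_involution hz3E hz32 hz31
  -- the three components at `z3`
  have hK3 : IP N z3 (K.map (MulAut.conj xt).toMonoidHom) := by
    have := c.hK.conj xt; rwa [hxtz] at this
  have hJ3 : IP N z3 (J.map (MulAut.conj kt).toMonoidHom) := by
    have := c.hJ.conj kt; rwa [hktz] at this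
  have hJ3' : IP N z3 ((J.map (MulAut.conj y).toMonoidHom).map (MulAut.conj kt).toMonoidHom) := by
    have := c.hJ'.conj kt; rwa [hktz] at this
  by_cases hcases : K.map (MulAut.conj xt).toMonoidHom = J.map (MulAut.conj kt).toMonoidHom ∨
      K.map (MulAut.conj xt).toMonoidHom = (J.map (MulAut.conj y).toMonoidHom).map (MulAut.conj kt).toMonoidHom
  swap
  · push Not at hcases
    refine absurd (bar_eq_one_of_le hE3 hAyE ?_) hne1
    have hy3S : bar (Cen z3) y3 ∈ barS (Cen z3) (K.map (MulAut.conj xt).toMonoidHom) :=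
      hK3.bar_mem ⟨y, c.y_mem, rfl⟩
    obtain ⟨p, hp, -, hpx⟩ := mem_barS.1 hx
    have hpJ : p ∈ Cen zJ := c.hJ.le hp
    set p' := y * p * y⁻¹ with hp'
    have hp'J : p' ∈ Cen zJ := mul_mem (mul_mem c.yJ hpJ) (inv_mem c.yJ)
    set o := w * (p * p')⁻¹ with ho
    have hoJ : o ∈ Cen zJ := mul_mem hw (inv_mem (mul_mem hpJ hp'J))
    have hob : bar (Cen zJ) o = 1 := by
      rw [ho, bar_mul hw (inv_mem (mul_mem hpJ hp'J)), bar_inv (mul_mem hpJ hp'J), bar_mul hpJ hp'J,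
        hp', bar_conj c.yJ hpJ, hpx, hwb, mul_inv_cancel]
    have ho3 : bar (Cen z3) (kt * o * kt⁻¹) = 1 := by
      have := bar_conj_eq_one kt hoJ hob; rwa [hktz] at this
    have hconj : ∀ {a : G}, a ∈ Cen zJ → kt * a * kt⁻¹ ∈ Cen z3 := fun {a} ha => mem_Cen.2 (by
      rw [← hktz]; exact commute_conj_of kt (mem_Cen.1 ha))
    have hA3 : bar (Cen z3) A = bar (Cen z3) (kt * p * kt⁻¹) * bar (Cen z3) (kt * p' * kt⁻¹) := by
      rw [hA, show kt * w * kt⁻¹ = kt * o * kt⁻¹ * (kt * p * kt⁻¹ * (kt * p' * kt⁻¹)) by rw [ho]; group,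
        bar_mul (hconj hoJ) (mul_mem (hconj hpJ) (hconj hp'J)), ho3, one_mul,
        bar_mul (hconj hpJ) (hconj hp'J)]
    have hp3 : bar (Cen z3) (kt * p * kt⁻¹) ∈ barS (Cen z3) (J.map (MulAut.conj kt).toMonoidHom) :=
      hJ3.bar_mem ⟨p, hp, rfl⟩
    have hp3' : bar (Cen z3) (kt * p' * kt⁻¹) ∈
        barS (Cen z3) ((J.map (MulAut.conj y).toMonoidHom).map (MulAut.conj kt).toMonoidHom) :=
      hJ3'.bar_mem ⟨p', ⟨p, hp, rfl⟩, rfl⟩
    have hc : Commute (bar (Cen z3) A) (bar (Cen z3) y3) := by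
      rw [hA3]
      exact (hJ3.commute hK3 (Ne.symm hcases.1) hp3 hy3S).mul_left
        (hJ3'.commute hK3 (Ne.symm hcases.2) hp3' hy3S)
    rw [bar_comm (hE3 hAE) (hE3 hy3E), hc.eq, mul_inv_cancel_right, mul_inv_cancel]
  -- pull `y3` back to `J` or its conjugate
  set y0 := kt⁻¹ * y3 * kt with hy0
  have hy0E : y0 ∈ E := by
    refine ⟨mem_Cen.2 ?_, (Cen zK).mul_mem ((Cen zK).mul_mem ((Cen zK).inv_mem hkt) hy3E.2) hkt⟩
    have h1 := commute_conj_of kt⁻¹ (mem_Cen.1 (hE3 hy3E))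
    rw [inv_inv, show kt⁻¹ * z3 * kt = zJ by rw [← hktz]; group] at h1
    exact h1
  have hmem : y0 ∈ J ∨ y⁻¹ * y0 * y ∈ J := by
    rcases hcases with h | h
    · obtain ⟨p, hp, hpy⟩ := h.le ⟨y, c.y_mem, rfl⟩
      left
      have : y0 = p := by
        rw [hy0, hy3, show xt * y * xt⁻¹ = kt * p * kt⁻¹ from hpy.symm]; group
      rwa [this]
    · obtain ⟨p', ⟨p, hp, hpp⟩, hpy⟩ := h.le ⟨y, c.y_mem, rfl⟩
      right
      have : y⁻¹ * y0 * y = p := by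
        rw [hy0, hy3, show xt * y * xt⁻¹ = kt * p' * kt⁻¹ from hpy.symm,
          show p' = y * p * y⁻¹ from hpp.symm]
        group
      rwa [this]
  have key : ∀ p : G, p ∈ J → p ∈ Cen zK → p ^ 4 = 1 → p * p ≠ 1 →
      ∃ u ∈ R, u * u = z ∧ Commute Z u := by
    intro p hp hpK hp4 hp2
    refine ⟨bar (Cen zJ) p, c.hJ.bar_mem hp, ?_,
      commute_bar c.zKJ (c.hJ.le hp) (mem_Cen.1 hpK).symm⟩
    rw [← bar_mul (c.hJ.le hp) (c.hJ.le hp),
      c.hJ.uniq (mul_mem hp hp) (by rw [← hp4, show (4 : ℕ) = 2 * 2 from rfl, pow_mul, pow_two, pow_two]) hp2]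
  have hy04 : y0 ^ 4 = 1 ∧ y0 * y0 ≠ 1 := by
    have e : y0 = (kt⁻¹ * xt) * y * (kt⁻¹ * xt)⁻¹ := by rw [hy0, hy3]; group
    refine ⟨by rw [e, conj_pow, c.y_four, mul_one, mul_inv_cancel], fun h => c.y_sq ?_⟩
    rw [e, show (kt⁻¹ * xt) * y * (kt⁻¹ * xt)⁻¹ * ((kt⁻¹ * xt) * y * (kt⁻¹ * xt)⁻¹) =
      (kt⁻¹ * xt) * (y * y) * (kt⁻¹ * xt)⁻¹ by group, conj_eq_one_iff] at h
    exact h
  rcases hmem with h | h
  · exact key y0 h hy0E.2 hy04.1 hy04.2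
  · refine key _ h (mul_mem (mul_mem (inv_mem c.yK) hy0E.2) c.yK) ?_ ?_
    · rw [show y⁻¹ * y0 * y = y⁻¹ * y0 * y⁻¹⁻¹ by rw [inv_inv], conj_pow, hy04.1, mul_one,
        mul_inv_cancel]
    · intro h1
      refine hy04.2 ?_
      calc y0 * y0 = y * (y⁻¹ * y0 * y * (y⁻¹ * y0 * y)) * y⁻¹ := by group
        _ = 1 := by rw [h1, mul_one, mul_inv_cancel]

/-- No element of `K` as in `Ctx` exists. -/
theorem false : False := by
  obtain ⟨x₀, hx₀, hx₀2, hx₀α⟩ := c.exists_x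
  obtain ⟨u, hu, hu2, huc⟩ := c.exists_u hx₀ hx₀2 hx₀α
  have hI := c.inner_of hu hu2 huc hx₀ hx₀α
  obtain ⟨-, -, e, he, hZ⟩ := c.inner_of hu hu2 huc hx₀ hx₀α
  obtain ⟨x, hx, hx2, hxu⟩ := c.hJ.good.anti u hu hu2
  have hα := c.anti_alpha hI hx hxu
  obtain ⟨g, hg, hgu⟩ := c.hJ.good.conj u hu x hx hu2 hx2
  have hec : ∀ q, Commute e q := by
    rcases he with rfl | rfl
    exacts [fun q => Commute.one_left q, bar_self_comm zJ]
  obtain ⟨w, hw, hwK', hwb, hw2⟩ :=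
    exists_lift_involution c.zKJ c.hK.inv (c.pair_comm hα e he).symm.eq (c.pair_sq hx hx2 he)
  have hwK : w ∈ Cen zK := mem_Cen.2 hwK'
  obtain ⟨hwn, hy', -⟩ := c.wLemma hx (by rw [c.beta_eq, hα]) he hw hwK hwb
  set q := g * (Y * g * Y⁻¹) with hq
  have hqconj : ∀ b ∈ R, q * (b * (Y * b * Y⁻¹) * e) * q⁻¹ =
      g * b * g⁻¹ * (Y * (g * b * g⁻¹) * Y⁻¹) * e := fun b hb => by
    calc q * (b * (Y * b * Y⁻¹) * e) * q⁻¹ = q * (b * (Y * b * Y⁻¹)) * (e * q⁻¹) := by group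
      _ = q * (b * (Y * b * Y⁻¹)) * q⁻¹ * e := by rw [(hec q⁻¹).eq]; group
      _ = _ := by rw [hq, c.pair_conj hg hb]
  obtain ⟨γ, hγ, hγw, hγb⟩ := exists_lift_conj (C := Cen zJ) (q := q) c.zKJ hw c.hK.inv hw2
    (by rw [hwb, hZ, hqconj u hu, hgu])
  -- the conjugate `w₂` of `zK` by `γ⁻¹` moves `K`
  set a := g⁻¹ * u * g with ha
  have haR : a ∈ R := mul_mem (mul_mem (inv_mem hg) hu) hg
  set w₂ := γ⁻¹ * zK * γ with hw₂
  have hw₂J : w₂ ∈ Cen zJ := mul_mem (mul_mem (inv_mem hγ) c.zKJ) hγ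
  have hw₂K : w₂ ∈ Cen zK := mem_Cen.2 (by
    have h1 := commute_conj_of γ⁻¹ (mem_Cen.1 hwK).symm
    rw [← hγw] at h1
    simp only [inv_inv] at h1
    rwa [show γ⁻¹ * (γ * zK * γ⁻¹) * γ = zK by group] at h1)
  have haα : Z * a * Z⁻¹ = a * z := by
    rw [c.inner_alpha hI haR]
    have hux : u * x * u⁻¹ = x * z := (c.inner_alpha hI hx).symm.trans hα
    have h2 : x * u * x⁻¹ = u * z := by rw [hxu, c.hJ.good.inv_of_sq hu2]
    -- conjugate `x u x⁻¹ = u z` back by `g`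
    have h3 : g⁻¹ * (x * u * x⁻¹) * g = g⁻¹ * (u * z) * g := by rw [h2]
    rw [show g⁻¹ * (x * u * x⁻¹) * g = (g⁻¹ * x * g) * a * (g⁻¹ * x * g)⁻¹ by rw [ha]; group,
      show g⁻¹ * x * g = u by rw [← hgu]; group] at h3
    rw [h3, ha, mul_assoc (g⁻¹ * u) g z, ← bar_self_comm zJ g]
    simp only [mul_assoc]
  have hw₂b : bar (Cen zJ) w₂ = a * (Y * a * Y⁻¹) * e := by
    rw [hw₂, show γ⁻¹ * zK * γ = γ⁻¹ * zK * γ⁻¹⁻¹ by rw [inv_inv], bar_conj (inv_mem hγ) c.zKJ,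
      bar_inv hγ, hγb, hZ]
    have h1 := hqconj a haR
    rw [show g * a * g⁻¹ = u by rw [ha]; group] at h1
    rw [← h1]
    group
  have hw₂n := (c.wLemma haR (by rw [c.beta_eq, haα]) he hw₂J hw₂K hw₂b).1
  have hL := c.hK.conj γ
  rw [hγw] at hL
  -- the diagonal in `C(zK)` lifts to the 2-layer of `C(w)`
  set Yk := bar (Cen zK) y with hYk
  set zk := bar (Cen zK) zJ with hzk
  set W := bar (Cen zK) w with hW
  have hWW : W * W = 1 := bar_mul_self hwK hw2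
  have hne : (barS (Cen zK) K).map (MulAut.conj W).toMonoidHom ≠ barS (Cen zK) K := fun h =>
    hwn (c.hK.mem_normalizer hwK fun b hb => h.le ⟨b, hb, rfl⟩)
  obtain ⟨D, hD, hDc, hDmem, hDi⟩ :=
    exists_diag c.hK.isComponent c.hK.good (bar_self_comm zK) hWW hne
  set z3 := zJ * zK with hz3
  have hz3K : z3 ∈ Cen zK := mul_mem c.zJK (self_mem_Cen zK)
  have hz3J : z3 ∈ Cen zJ := mul_mem (self_mem_Cen zJ) c.zKJ
  have hz32 : z3 * z3 = 1 := by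
    rw [hz3, (show Commute zK zJ from c.zK_comm).mul_mul_mul_comm, c.hJ.inv, c.hK.inv, one_mul]
  have hz31 : z3 ≠ 1 := fun h => c.zne (by
    rw [← inv_eq_of_mul_eq_one_right c.hK.inv]; exact mul_eq_one_iff_eq_inv.1 h)
  have hz3D : bar (Cen zK) z3 ∈ D := (hDmem _).2 ⟨Yk, c.hK.bar_mem c.y_mem, by
    rw [hz3, bar_mul c.zJK (self_mem_Cen zK), ← hzk]
    have h1 : W * Yk * W = zk * Yk := by
      rw [← hy', bar_conj hwK c.yK, ← hW, ← hYk, inv_eq_of_mul_eq_one_right hWW]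
    have h2 : Yk * Yk = bar (Cen zK) zK := by rw [hYk, ← bar_mul c.yK c.yK, ← c.zK_eq]
    rw [h1, ← mul_assoc, ← (commute_bar c.zJK c.yK c.y_comm.symm).eq, mul_assoc, h2]⟩
  have heven : Even (Nat.card ↥D) := by
    by_contra hodd
    exact bar_ne_one_of_involution hz3K hz32 hz31
      ((oddEl_of_mem (Nat.not_even_iff_odd.1 hodd) hz3D).eq_one
        (two_bar hz3K (two_of_mul_self hz32)))
  obtain ⟨P, hP⟩ := exists_isLift c.hK.inv hw2 hwK hD hDc heven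
  obtain ⟨p, hp, -, hpb⟩ := mem_barS.1 (hP.map_eq.ge hz3D)
  obtain ⟨k, hk, hk2⟩ := exists_odd_pow p
  have hpK : p ∈ Cen zK := (hP.le hp).1
  have hpw : p ∈ Cen w := (hP.le hp).2
  have heb : bar (Cen zK) (p ^ k) = bar (Cen zK) z3 := by
    rw [bar_pow hpK, hpb, pow_odd_of_mul_self (bar_mul_self hz3K hz32) hk]
  have he2 : p ^ k * p ^ k = 1 :=
    (oddEl_of_bar (mul_mem (pow_mem hpK k) (pow_mem hpK k)) (by
      rw [bar_mul (pow_mem hpK k) (pow_mem hpK k), heb, bar_mul_self hz3K hz32])).eq_one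
      (hk2.mul hk2 (Commute.refl _))
  have hz3w : z3 ∈ Cen w := mem_Cen.2 (by
    rw [hz3, mul_assoc, ← mem_Cen.1 hwK, ← mul_assoc, ← mem_Cen.1 hw, mul_assoc])
  obtain ⟨o, ho, hoe, -⟩ := exists_conj (N := coreIn 2 (Cen zK) ⊓ Cen w)
    ((odd_core (Cen zK)).of_dvd_nat (Subgroup.card_dvd_of_le inf_le_left)) he2 hz32
    ⟨(bar_eq_one_iff (mul_mem (pow_mem hpK k) hz3K)).1 (by
      rw [bar_mul (pow_mem hpK k) hz3K, heb, bar_mul_self hz3K hz32]),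
      (Cen w).mul_mem ((Cen w).pow_mem hpw k) hz3w⟩
  have hz3L : z3 ∈ pLayerOf 2 (Cen w) := by
    obtain ⟨l, hl, hle⟩ := (pLayerOf 2 (Cen w)).pow_mem (hP.le_layer hp) k
    refine ⟨⟨o, ho.2⟩ * l * ⟨o, ho.2⟩⁻¹,
      (inferInstance : (pLayer 2 ↥(Cen w)).Normal).conj_mem l hl _, ?_⟩
    show o * (l : G) * o⁻¹ = z3
    rw [show (l : G) = p ^ k from hle, hoe]
  obtain ⟨xt, hxt, hxtw, hxtz, -⟩ := exists_lift_conj₂ (C := Cen zJ) (q := x) hw hz3J hw c.zKJ hw2 hz32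
    hw2 c.hK.inv (mem_Cen.1 hz3w).symm (mem_Cen.1 hwK)
    (by
      rw [hwb]
      have h1 : Commute x (x * (Y * x * Y⁻¹) * e) :=
        ((Commute.refl x).mul_right (c.comm hx hx)).mul_right (hec x).symm
      rw [h1.eq, mul_inv_cancel_right])
    (by
      rw [hz3, bar_mul (self_mem_Cen zJ) c.zKJ,
        show x * (z * Z) * x⁻¹ = (x * z) * x⁻¹ * (x * Z * x⁻¹) by group, c.x_Z hα,
        ← bar_self_comm zJ x, mul_inv_cancel_right, ← mul_assoc, c.hJ.good.z_sq, one_mul])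
  have hzKL : zK ∈ pLayerOf 2 (Cen w) := by
    obtain ⟨l, hl, hle⟩ := hz3L
    have hxtw' : xt ∈ Cen w := mem_Cen.2 (mul_inv_eq_iff_eq_mul.1 hxtw)
    refine ⟨⟨xt, hxtw'⟩ * l * ⟨xt, hxtw'⟩⁻¹,
      (inferInstance : (pLayer 2 ↥(Cen w)).Normal).conj_mem l hl _, ?_⟩
    show xt * (l : G) * xt⁻¹ = zK
    rw [show (l : G) = z3 from hle, hxtz]
  refine hw₂n (Subgroup.mem_normalizer_iff_map_conj_eq.2 ?_)
  have h1 := Subgroup.mem_normalizer_iff_map_conj_eq.1 (hL.layer_le_normalizer hzKL)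
  refine Subgroup.map_injective (f := (MulAut.conj γ).toMonoidHom) (MulAut.conj γ).injective ?_
  refine Eq.trans ?_ h1
  rw [Subgroup.map_map, Subgroup.map_map]
  congr 1
  refine MonoidHom.ext fun b => ?_
  show γ * (w₂ * b * w₂⁻¹) * γ⁻¹ = zK * (γ * b * γ⁻¹) * zK⁻¹
  rw [hw₂]
  group

end Ctx

end Cfsg.Agent.Lib.Intrinsic76
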