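import Cfsg.Agent.Lib.Intrinsic76.Elem
import Cfsg.Agent.Lib.Components.Basic
import Cfsg.Agent.S0215

/-!
# Quasisimple groups of type SL₂(q), 2A₇: the properties used, and twisting by an involution

Owner: helper76 (intrinsic SL₂-components).
-/

set_option autoImplicit false
set_option linter.style.haveILetI false
open Cfsg
open scoped commutatorElement

namespace Cfsg.Agent.Lib.Intrinsic76

open Components

variable {Q : Type*} [Group Q]

/-- `R` is quasisimple with unique involution `z`, which generates the centre; the square roots of `z`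
are conjugate and each is inverted by another one. -/
structure GoodIn (R : Subgroup Q) (z : Q) : Prop where
  qs : IsQuasisimple ↥R
  z_mem : z ∈ R
  z_ne : z ≠ 1
  z_sq : z * z = 1
  uniq : ∀ u ∈ R, u * u = 1 → u = 1 ∨ u = z
  cent : ∀ a ∈ R, (∀ b ∈ R, a * b = b * a) → a = 1 ∨ a = z
  sqrt : ∃ x ∈ R, x * x = z
  conj : ∀ u ∈ R, ∀ v ∈ R, u * u = z → v * v = z → ∃ g ∈ R, g * u * g⁻¹ = v
  anti : ∀ u ∈ R, u * u = z → ∃ v ∈ R, v * v = z ∧ v * u * v⁻¹ = u⁻¹

namespace GoodIn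

variable {R : Subgroup Q} {z : Q}

theorem z_inv (h : GoodIn R z) : z⁻¹ = z := inv_eq_of_mul_eq_one_right h.z_sq

theorem z_comm (h : GoodIn R z) {u : Q} (hu : u ∈ R) : z * u = u * z := by
  rcases h.uniq (u * z * u⁻¹) (mul_mem (mul_mem hu h.z_mem) (inv_mem hu)) (by
    calc u * z * u⁻¹ * (u * z * u⁻¹) = u * (z * z) * u⁻¹ := by group
      _ = 1 := by rw [h.z_sq, mul_one, mul_inv_cancel]) with h1 | h1
  · exact absurd (conj_eq_one_iff.1 h1) h.z_ne
  · exact (mul_inv_eq_iff_eq_mul.1 h1).symm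

theorem inv_of_sq (h : GoodIn R z) {u : Q} (hu2 : u * u = z) : u⁻¹ = u * z := by
  refine inv_eq_of_mul_eq_one_right ?_
  rw [← mul_assoc, hu2, h.z_sq]

theorem sq_ne_one (h : GoodIn R z) {u : Q} (hu2 : u * u = z) : u ≠ 1 ∧ u ≠ z := by
  refine ⟨fun h1 => h.z_ne ?_, fun h1 => h.z_ne ?_⟩
  · rw [← hu2, h1, one_mul]
  · rw [← hu2, h1, h.z_sq]

theorem not_central (h : GoodIn R z) {u : Q} (hu : u ∈ R) (hu2 : u * u = z) :
    ¬ ∀ b ∈ R, u * b = b * u := fun hc => by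
  rcases h.cent u hu hc with h1 | h1
  exacts [(h.sq_ne_one hu2).1 h1, (h.sq_ne_one hu2).2 h1]

theorem mem_center_iff (h : GoodIn R z) {a : ↥R} :
    a ∈ Subgroup.center ↥R ↔ (a : Q) = 1 ∨ (a : Q) = z := by
  refine ⟨fun ha => h.cent a a.2 fun b hb => congrArg Subtype.val (Subgroup.mem_center_iff.1 ha ⟨b, hb⟩).symm,
    fun ha => Subgroup.mem_center_iff.2 fun b => Subtype.ext ?_⟩
  rcases ha with ha | ha <;> simp only [Subgroup.coe_mul, ha]
  · rw [one_mul, mul_one]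
  · exact (h.z_comm b.2).symm

/-- An element inducing an automorphism that is trivial modulo the centre centralizes `R`. -/
theorem fix_of_central (h : GoodIn R z) {a : Q}
    (hc : ∀ b ∈ R, a * b * a⁻¹ * b⁻¹ = 1 ∨ a * b * a⁻¹ * b⁻¹ = z) : ∀ b ∈ R, a * b = b * a := by
  have hmem : ∀ b ∈ R, a * b * a⁻¹ * b⁻¹ ∈ R := fun b hb => by
    rcases hc b hb with h1 | h1 <;> rw [h1]
    exacts [R.one_mem, h.z_mem]
  have hcomm : ∀ b ∈ R, ∀ c ∈ R, Commute (a * b * a⁻¹ * b⁻¹) c := by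
    intro b hb c hc'
    rcases hc b hb with h1 | h1 <;> rw [h1]
    exacts [Commute.one_left c, h.z_comm hc']
  let f : ↥R →* ↥R := MonoidHom.mk'
    (fun b => ⟨a * (b : Q) * a⁻¹ * (b : Q)⁻¹, hmem b b.2⟩)
    fun b c => Subtype.ext (by
      show a * ((b : Q) * c) * a⁻¹ * ((b : Q) * c)⁻¹ =
        a * (b : Q) * a⁻¹ * (b : Q)⁻¹ * (a * (c : Q) * a⁻¹ * (c : Q)⁻¹)
      calc a * ((b : Q) * c) * a⁻¹ * ((b : Q) * c)⁻¹
          = a * (b : Q) * a⁻¹ * ((a * (c : Q) * a⁻¹ * (c : Q)⁻¹) * (b : Q)⁻¹) := by group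
        _ = a * (b : Q) * a⁻¹ * ((b : Q)⁻¹ * (a * (c : Q) * a⁻¹ * (c : Q)⁻¹)) := by
            rw [((hcomm c c.2 b b.2).inv_right).eq]
        _ = _ := by group)
  have hle : _root_.commutator ↥R ≤ f.ker := by
    rw [_root_.commutator_def, Subgroup.commutator_le]
    intro b _ c _
    rw [MonoidHom.mem_ker, map_commutatorElement, commutatorElement_eq_one_iff_commute]
    exact Subtype.ext (hcomm b b.2 _ (f c).2).eq
  haveI := h.qs.1
  rw [Group.IsPerfect.commutator_eq_top] at hle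
  intro b hb
  have h1 : a * b * a⁻¹ * b⁻¹ = 1 :=
    congrArg Subtype.val (MonoidHom.mem_ker.1 (hle (Subgroup.mem_top (⟨b, hb⟩ : ↥R))))
  exact mul_inv_eq_iff_eq_mul.1 (mul_inv_eq_one.1 h1)

/-- An element of `R` with all commutators central is central. -/
theorem cent₂ (h : GoodIn R z) {a : Q} (ha : a ∈ R)
    (hc : ∀ b ∈ R, a * b * a⁻¹ * b⁻¹ = 1 ∨ a * b * a⁻¹ * b⁻¹ = z) : a = 1 ∨ a = z :=
  h.cent a ha (h.fix_of_central hc)

/-- Elements of `R` inducing the same automorphism differ by a central element. -/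
theorem eq_mod_center (h : GoodIn R z) {r r' : Q} (hr : r ∈ R) (hr' : r' ∈ R)
    (he : ∀ b ∈ R, r * b * r⁻¹ = r' * b * r'⁻¹) : r'⁻¹ * r = 1 ∨ r'⁻¹ * r = z :=
  h.cent _ (mul_mem (inv_mem hr') hr) fun b hb => by
    calc r'⁻¹ * r * b = r'⁻¹ * (r * b * r⁻¹) * r := by group
      _ = r'⁻¹ * (r' * b * r'⁻¹) * r := by rw [he b hb]
      _ = b * (r'⁻¹ * r) := by group

/-- A normal subgroup of odd order of `R` is trivial. -/
theorem eq_one_of_odd_normal (h : GoodIn R z) {S : Subgroup Q} (hS : Odd (Nat.card ↥S))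
    (hn : ∀ r ∈ R, ∀ s ∈ S, r * s * r⁻¹ ∈ S) {a : Q} (ha : a ∈ R) (haS : a ∈ S) : a = 1 := by
  haveI hN : (S.subgroupOf R).Normal := ⟨fun s hs r => hn r r.2 s hs⟩
  rcases Quasisimple.normal_le_center_or_eq_top h.qs hN with hc | ht
  · rcases h.mem_center_iff.1 (hc (show (⟨a, ha⟩ : ↥R) ∈ S.subgroupOf R from haS)) with h1 | h1
    · exact h1
    · exact absurd ((oddEl_of_mem hS haS).eq_one (two_of_mul_self (by rw [show a = z from h1, h.z_sq] : a * a = 1)))
        (fun h2 => h.z_ne (h1.symm.trans h2))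
  · have hz : z ∈ S := (ht ▸ Subgroup.mem_top _ : (⟨z, h.z_mem⟩ : ↥R) ∈ S.subgroupOf R)
    exact absurd ((oddEl_of_mem hS hz).eq_one (two_of_mul_self h.z_sq)) h.z_ne

theorem exists_pow_sqrt (h : GoodIn R z) {x : Q} (hx : x ∈ R) (hx2 : Two x) (h1 : x ≠ 1)
    (hz : x ≠ z) : ∃ n : ℕ, x ^ 2 ^ n * x ^ 2 ^ n = z := by
  obtain ⟨i, hi⟩ := hx2
  induction i generalizing x with
  | zero => exact absurd (by simpa using hi) h1
  | succ i ih =>
    by_cases hs : x * x = z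
    · exact ⟨0, by simpa using hs⟩
    obtain ⟨n, hn⟩ := ih (x := x * x) (mul_mem hx hx) (fun hxx => by
      rcases h.uniq x hx hxx with h2 | h2
      exacts [h1 h2, hz h2]) hs (by rw [← pow_two, ← pow_mul, ← pow_succ']; exact hi)
    refine ⟨n + 1, ?_⟩
    rw [pow_succ', pow_mul, pow_two]
    exact hn

theorem map {Q' : Type*} [Group Q'] (h : GoodIn R z) (e : Q ≃* Q') :
    GoodIn (R.map e.toMonoidHom) (e z) where
  qs := Quasisimple.of_mulEquiv h.qs (R.equivMapOfInjective _ e.injective)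
  z_mem := ⟨z, h.z_mem, rfl⟩
  z_ne := fun h1 => h.z_ne (e.injective (h1.trans (map_one e).symm))
  z_sq := by rw [← map_mul, h.z_sq, map_one]
  uniq := by
    rintro _ ⟨u, hu, rfl⟩ h2
    change e u * e u = 1 at h2
    rw [← map_mul, EmbeddingLike.map_eq_one_iff] at h2
    rcases h.uniq u hu h2 with rfl | rfl
    exacts [Or.inl (map_one e), Or.inr rfl]
  cent := by
    rintro _ ⟨a, ha, rfl⟩ hc
    rcases h.cent a ha fun b hb => e.injective (by
      rw [map_mul, map_mul]; exact hc _ ⟨b, hb, rfl⟩) with rfl | rfl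
    exacts [Or.inl (map_one e), Or.inr rfl]
  sqrt := by
    obtain ⟨x, hx, hx2⟩ := h.sqrt
    exact ⟨e x, ⟨x, hx, rfl⟩, by rw [← map_mul, hx2]⟩
  conj := by
    rintro _ ⟨u, hu, rfl⟩ _ ⟨v, hv, rfl⟩ hu2 hv2
    obtain ⟨g, hg, hge⟩ := h.conj u hu v hv (e.injective (by rw [map_mul]; exact hu2))
      (e.injective (by rw [map_mul]; exact hv2))
    exact ⟨e g, ⟨g, hg, rfl⟩, by
      show e g * e u * (e g)⁻¹ = e v
      rw [← map_inv, ← map_mul, ← map_mul, hge]⟩
  anti := by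
    rintro _ ⟨u, hu, rfl⟩ hu2
    obtain ⟨v, hv, hv2, hve⟩ := h.anti u hu (e.injective (by rw [map_mul]; exact hu2))
    exact ⟨e v, ⟨v, hv, rfl⟩, by rw [← map_mul, hv2], by
      show e v * e u * (e v)⁻¹ = (e u)⁻¹
      rw [← map_inv, ← map_mul, ← map_mul, hve, map_inv]⟩

end GoodIn

theorem exists_half {d : Q} : ∀ i : ℕ, d ^ 2 ^ i = 1 → d * d ≠ 1 →
    ∃ k : ℕ, d ^ (4 * k) = 1 ∧ d ^ (2 * k) ≠ 1
  | 0, h, h' => absurd (by simp at h; simp [h]) h'
  | 1, h, h' => absurd (by rwa [pow_one, pow_two] at h) h'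
  | i + 2, h, h' => by
    by_cases hd : d ^ 2 ^ (i + 1) = 1
    · exact exists_half (i + 1) hd h'
    · refine ⟨2 ^ i, ?_, fun h2 => hd (by rw [pow_succ']; exact h2)⟩
      rw [show 4 * 2 ^ i = 2 ^ (i + 2) by ring]
      exact h

/-- An involution normalizing but not centralizing `R` multiplies some 2-element of `R` by `z`. -/
theorem exists_twist [Finite Q] {T : Subgroup Q} {z : Q} (hT : GoodIn T z) {a : Q} (ha : a * a = 1)
    (haT : ∀ x ∈ T, a * x * a⁻¹ ∈ T) (hne : ∃ x ∈ T, a * x ≠ x * a) :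
    ∃ g ∈ T, Two g ∧ a * g * a⁻¹ = g * z := by
  haveI : Fact (Nat.Prime 2) := ⟨Nat.prime_two⟩
  have hai : a⁻¹ = a := inv_eq_of_mul_eq_one_right ha
  have haT' : ∀ x ∈ T, a * x * a ∈ T := fun x hx => by simpa [hai] using haT x hx
  let M : Subgroup Q :=
    { carrier := {m | m ∈ T ∨ m * a ∈ T}
      one_mem' := Or.inl T.one_mem
      mul_mem' := by
        rintro m n (hm | hm) (hn | hn)
        · exact Or.inl (mul_mem hm hn)
        · exact Or.inr (by rw [mul_assoc]; exact mul_mem hm hn)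
        · refine Or.inr ?_
          have h1 := mul_mem hm (haT' n hn)
          rwa [show m * a * (a * n * a) = m * (a * a) * n * a by group, ha, mul_one] at h1
        · refine Or.inl ?_
          have h1 := mul_mem hm (haT' _ hn)
          rwa [show m * a * (a * (n * a) * a) = m * (a * a) * n * (a * a) by group, ha, mul_one,
            mul_one] at h1
      inv_mem' := by
        rintro m (hm | hm)
        · exact Or.inl (inv_mem hm)
        · refine Or.inr ?_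
          have h1 := haT' _ (inv_mem hm)
          rwa [mul_inv_rev, ← mul_assoc, mul_inv_cancel, one_mul] at h1 }
  have haM : a ∈ M := Or.inr (by rw [ha]; exact T.one_mem)
  set α : ↥M := ⟨a, haM⟩ with hα
  have hα2 : α * α = 1 := Subtype.ext ha
  obtain ⟨x, hx, hxne⟩ := hne
  have ha1 : a ≠ 1 := fun h => hxne (by rw [h, one_mul, mul_one])
  obtain ⟨P, hP⟩ := (two_of_mul_self hα2).isPGroup.exists_le_sylow
  have hαP : α ∈ P := hP (Subgroup.mem_zpowers α)
  have hαo : orderOf α = 2 :=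
    orderOf_eq_prime (by rw [pow_two, hα2]) fun h => ha1 (congrArg Subtype.val h)
  by_cases hiso : ∀ g : ↥M, g * α * g⁻¹ ∈ P → g * α * g⁻¹ = α
  · exfalso
    obtain ⟨N, hN, hNodd, hNc⟩ := S0215.result P α hαo hαP hiso
    refine hxne ?_
    have hS : Odd (Nat.card ↥(N.map M.subtype)) := by
      rwa [Subgroup.card_map_of_injective M.subtype_injective]
    have h1 : a * x * a⁻¹ * x⁻¹ = 1 := by
      refine hT.eq_one_of_odd_normal hS ?_ (mul_mem (haT x hx) (inv_mem hx))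
        ⟨_, hNc ⟨x, Or.inl hx⟩, rfl⟩
      rintro r hr _ ⟨n, hn, rfl⟩
      exact ⟨⟨r, Or.inl hr⟩ * n * ⟨r, Or.inl hr⟩⁻¹, hN.conj_mem n hn _, rfl⟩
    exact mul_inv_eq_iff_eq_mul.1 (mul_inv_eq_one.1 h1)
  · push Not at hiso
    obtain ⟨g₀, hg₀P, hg₀⟩ := hiso
    -- a conjugate of `α` commuting with it
    obtain ⟨g, hgc, hgne⟩ : ∃ g : ↥M, Commute (g * α * g⁻¹) α ∧ g * α * g⁻¹ ≠ α := by
      by_cases hc : Commute (g₀ * α * g₀⁻¹) α
      · exact ⟨g₀, hc, hg₀⟩
      set b := g₀ * α * g₀⁻¹ with hb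
      have hb2 : b * b = 1 := by
        rw [hb, show g₀ * α * g₀⁻¹ * (g₀ * α * g₀⁻¹) = g₀ * (α * α) * g₀⁻¹ by group, hα2, mul_one,
          mul_inv_cancel]
      set d := α * b with hd
      obtain ⟨i, hi⟩ := P.isPGroup' ⟨d, mul_mem hαP hg₀P⟩
      have hi' : d ^ 2 ^ i = 1 := congrArg Subtype.val hi
      have hdd : d * d ≠ 1 := fun h => hc (by
        show b * α = α * b
        calc b * α = (α * b)⁻¹ := by
              rw [mul_inv_rev, inv_eq_of_mul_eq_one_right hb2, inv_eq_of_mul_eq_one_right hα2]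
          _ = α * b := inv_eq_of_mul_eq_one_right h)
      obtain ⟨k, hk4, hk2⟩ := exists_half i hi' hdd
      have hαi : α⁻¹ = α := inv_eq_of_mul_eq_one_right hα2
      have hdα : α * d * α⁻¹ = d⁻¹ := by
        rw [hd, mul_inv_rev, inv_eq_of_mul_eq_one_right hb2, hαi, ← mul_assoc, hα2, one_mul]
      have hkk : α * (d ^ k)⁻¹ * α⁻¹ = d ^ k := by
        rw [← inv_pow, ← conj_pow]
        congr 1
        rw [show α * d⁻¹ * α⁻¹ = (α * d * α⁻¹)⁻¹ by group, hdα, inv_inv]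
      have hkk' : α * (d ^ (2 * k))⁻¹ * α⁻¹ = d ^ (2 * k) := by
        rw [← inv_pow, ← conj_pow]
        congr 1
        rw [show α * d⁻¹ * α⁻¹ = (α * d * α⁻¹)⁻¹ by group, hdα, inv_inv]
      have hc1 : d ^ k * α * (d ^ k)⁻¹ = d ^ (2 * k) * α := by
        rw [two_mul, pow_add]
        calc d ^ k * α * (d ^ k)⁻¹ = d ^ k * (α * (d ^ k)⁻¹ * α⁻¹) * α := by group
          _ = d ^ k * d ^ k * α := by rw [hkk]
      have hself : (d ^ (2 * k))⁻¹ = d ^ (2 * k) := by
        refine inv_eq_of_mul_eq_one_right ?_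
        rw [← pow_add, show 2 * k + 2 * k = 4 * k by ring, hk4]
      refine ⟨d ^ k, ?_, ?_⟩
      · show d ^ k * α * (d ^ k)⁻¹ * α = α * (d ^ k * α * (d ^ k)⁻¹)
        rw [hc1, mul_assoc, hα2, mul_one]
        calc d ^ (2 * k) = α * (d ^ (2 * k))⁻¹ * α⁻¹ := hkk'.symm
          _ = α * (d ^ (2 * k) * α) := by rw [hself, hαi, mul_assoc]
      · rw [hc1]
        exact fun h => hk2 (mul_eq_right.1 h)
    -- write the conjugate as `τ a τ⁻¹` with `τ ∈ T`
    obtain ⟨τ, hτ, hτe⟩ : ∃ τ ∈ T, ((g * α * g⁻¹ : ↥M) : Q) = τ * a * τ⁻¹ := by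
      rcases g.2 with hg | hg
      · exact ⟨_, hg, rfl⟩
      · refine ⟨_, hg, ?_⟩
        simp only [Subgroup.coe_mul, Subgroup.coe_inv, hα, mul_inv_rev]
        rw [hai, show (g : Q) * a * a * (a * (g : Q)⁻¹) = (g : Q) * a * (a * a) * (g : Q)⁻¹ by group,
          ha, mul_one]
    set c := τ * a * τ⁻¹ with hc
    have hc2 : c * c = 1 := by
      rw [hc, show τ * a * τ⁻¹ * (τ * a * τ⁻¹) = τ * (a * a) * τ⁻¹ by group, ha, mul_one,
        mul_inv_cancel]
    have hcT : c * a ∈ T := by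
      rw [hc, show τ * a * τ⁻¹ * a = τ * (a * τ⁻¹ * a) by group]
      exact mul_mem hτ (haT' _ (inv_mem hτ))
    have hcomm : c * a = a * c := by
      have := congrArg Subtype.val hgc.eq
      simpa [hτe] using this
    have hcz : c * a = z := by
      refine (hT.uniq _ hcT ?_).resolve_left fun h => ?_
      · rw [show c * a * (c * a) = c * (a * c) * a by group, ← hcomm,
          show c * (c * a) * a = (c * c) * (a * a) by group, hc2, ha, one_mul]
      · refine hgne (Subtype.ext (hτe.trans ?_))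
        rw [mul_eq_one_iff_eq_inv.1 h, hai]
    have hτa : a * τ * a⁻¹ = τ * z := by
      rw [← hT.z_comm hτ, ← hcz]
      calc a * τ * a⁻¹ = (c * c) * (a * τ) * a⁻¹ := by rw [hc2, one_mul]
        _ = c * (c * a) * τ * a⁻¹ := by group
        _ = c * (a * c) * τ * a⁻¹ := by rw [hcomm]
        _ = c * a * τ := by rw [hc]; group
    obtain ⟨k, hk, hk2⟩ := exists_odd_pow τ
    refine ⟨τ ^ k, pow_mem hτ k, hk2, ?_⟩
    rw [← conj_pow, hτa, (Commute.mul_pow (hT.z_comm hτ).symm k : _), pow_odd_of_mul_self hT.z_sq hk]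

end Cfsg.Agent.Lib.Intrinsic76
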