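import Cfsg.Agent.Lib.Intrinsic76.Ctx
import Cfsg.Agent.Lib.PGroups.Omega
import Mathlib

/-!
# The element moving `J` has order 4

Owner: helper76 (intrinsic SL₂-components).
-/

set_option autoImplicit false
set_option linter.style.haveILetI false
open Cfsg
open scoped Pointwise

namespace Cfsg.Agent.Lib.Intrinsic76

open Components Balance

variable {Q : Type*} [Group Q] [Finite Q]

/-- A 2-group `P` normalizing `R`, containing a given 2-element and an anticommuting pair of square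
roots of `z` in `R`. -/
theorem exists_pGroup_pair {R : Subgroup Q} {z : Q} (h : GoodIn R z) {β : Q} (hβ : Two β)
    (hn : β ∈ Subgroup.normalizer (R : Set Q)) :
    ∃ P : Subgroup Q, IsPGroup 2 ↥P ∧ P ≤ Subgroup.normalizer (R : Set Q) ∧ β ∈ P ∧
      ∃ x ∈ P, x ∈ R ∧ x * x = z ∧ ∃ v ∈ P, v ∈ R ∧ v * v = z ∧ v * x * v⁻¹ = x⁻¹ := by
  haveI : Fact (Nat.Prime 2) := ⟨Nat.prime_two⟩
  set Nm := Subgroup.normalizer (R : Set Q) with hNm
  obtain ⟨x, hx, hx2⟩ := h.sqrt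
  obtain ⟨v, hv, hv2, hvx⟩ := h.anti x hx hx2
  have hxN : x ∈ Nm := Subgroup.le_normalizer hx
  have hvN : v ∈ Nm := Subgroup.le_normalizer hv
  have htwo : ∀ {u : Q}, u * u = z → Two u := fun hu => two_of_sq (hu ▸ two_of_mul_self h.z_sq)
  have htwo' : ∀ {u : ↥Nm}, Two (u : Q) → Two u := fun ⟨i, hi⟩ => ⟨i, Subtype.ext (by
    rw [SubmonoidClass.coe_pow]; exact hi)⟩
  set x' : ↥Nm := ⟨x, hxN⟩ with hx'
  set v' : ↥Nm := ⟨v, hvN⟩ with hv'
  have hS0 : IsPGroup 2 ↥(Subgroup.zpowers x' ⊔ Subgroup.zpowers v') := by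
    refine IsPGroup.to_sup_of_normal_left' (htwo' (htwo hx2)).isPGroup (htwo' (htwo hv2)).isPGroup ?_
    rw [Subgroup.zpowers_le, Subgroup.mem_normalizer_iff_map_conj_eq, MonoidHom.map_zpowers]
    have hconj : v' * x' * v'⁻¹ = x'⁻¹ := Subtype.ext hvx
    show Subgroup.zpowers (v' * x' * v'⁻¹) = _
    rw [hconj, Subgroup.zpowers_inv]
  obtain ⟨P₀, hP₀⟩ := hS0.exists_le_sylow
  obtain ⟨P, hP⟩ := (htwo' (u := ⟨β, hn⟩) hβ).isPGroup.exists_le_sylow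
  obtain ⟨g, hg⟩ := MulAction.exists_smul_eq ↥Nm P₀ P
  have hmem : ∀ a ∈ P₀, g * a * g⁻¹ ∈ P := fun a ha => by
    show g * a * g⁻¹ ∈ (P : Subgroup ↥Nm)
    rw [← hg, Sylow.coe_subgroup_smul]
    exact ⟨a, ha, rfl⟩
  refine ⟨(P : Subgroup ↥Nm).map Nm.subtype, P.isPGroup'.map _, Subgroup.map_subtype_le _,
    ⟨⟨β, hn⟩, hP (Subgroup.mem_zpowers _), rfl⟩,
    (g : Q) * x * (g : Q)⁻¹, ⟨g * x' * g⁻¹, hmem x' (hP₀ (Subgroup.mem_sup_left (Subgroup.mem_zpowers _))), rfl⟩,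
    (Subgroup.mem_normalizer_iff.1 g.2 x).1 hx, ?_,
    (g : Q) * v * (g : Q)⁻¹, ⟨g * v' * g⁻¹, hmem v' (hP₀ (Subgroup.mem_sup_right (Subgroup.mem_zpowers _))), rfl⟩,
    (Subgroup.mem_normalizer_iff.1 g.2 v).1 hv, ?_, ?_⟩
  · have hgz : (g : Q) * z * (g : Q)⁻¹ = z := by
      rcases h.uniq _ ((Subgroup.mem_normalizer_iff.1 g.2 z).1 h.z_mem) (by
        rw [show (g : Q) * z * (g : Q)⁻¹ * ((g : Q) * z * (g : Q)⁻¹) = (g : Q) * (z * z) * (g : Q)⁻¹ by group,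
          h.z_sq, mul_one, mul_inv_cancel]) with h1 | h1
      exacts [absurd (conj_eq_one_iff.1 h1) h.z_ne, h1]
    rw [show (g : Q) * x * (g : Q)⁻¹ * ((g : Q) * x * (g : Q)⁻¹) = (g : Q) * (x * x) * (g : Q)⁻¹ by group, hx2, hgz]
  · have hgz : (g : Q) * z * (g : Q)⁻¹ = z := by
      rcases h.uniq _ ((Subgroup.mem_normalizer_iff.1 g.2 z).1 h.z_mem) (by
        rw [show (g : Q) * z * (g : Q)⁻¹ * ((g : Q) * z * (g : Q)⁻¹) = (g : Q) * (z * z) * (g : Q)⁻¹ by group,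
          h.z_sq, mul_one, mul_inv_cancel]) with h1 | h1
      exacts [absurd (conj_eq_one_iff.1 h1) h.z_ne, h1]
    rw [show (g : Q) * v * (g : Q)⁻¹ * ((g : Q) * v * (g : Q)⁻¹) = (g : Q) * (v * v) * (g : Q)⁻¹ by group, hv2, hgz]
  · rw [show (g : Q) * v * (g : Q)⁻¹ * ((g : Q) * x * (g : Q)⁻¹) * ((g : Q) * v * (g : Q)⁻¹)⁻¹ =
      (g : Q) * (v * x * v⁻¹) * (g : Q)⁻¹ by group, hvx]
    group

/-- A square root of `z` in `P ∩ R` central in `P` modulo `⟨z⟩`. -/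
theorem exists_central_sqrt {R : Subgroup Q} {z : Q} (h : GoodIn R z) (hzc : ∀ q, z * q = q * z)
    {P : Subgroup Q} (hP : IsPGroup 2 ↥P) (hPn : P ≤ Subgroup.normalizer (R : Set Q))
    {x : Q} (hxP : x ∈ P) (hxR : x ∈ R) (hx : x * x = z) :
    ∃ u ∈ P, u ∈ R ∧ u * u = z ∧ ∀ p ∈ P, p * u * p⁻¹ = u ∨ p * u * p⁻¹ = u * z := by
  haveI : Fact (Nat.Prime 2) := ⟨Nat.prime_two⟩
  have hzP : z ∈ P := hx ▸ mul_mem hxP hxP
  set Z₀ := Subgroup.zpowers (⟨z, hzP⟩ : ↥P) with hZ₀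
  have hZ₀mem : ∀ a : ↥P, a ∈ Z₀ → (a : Q) = 1 ∨ (a : Q) = z := by
    intro a ha
    obtain ⟨n, rfl⟩ := Subgroup.mem_zpowers_iff.1 ha
    rcases Int.even_or_odd n with ⟨l, rfl⟩ | ⟨l, rfl⟩
    · left
      rw [← two_mul, zpow_mul, SubgroupClass.coe_zpow, SubgroupClass.coe_zpow, zpow_two, h.z_sq, one_zpow]
    · right
      rw [zpow_add, zpow_mul, zpow_one, Subgroup.coe_mul, SubgroupClass.coe_zpow, SubgroupClass.coe_zpow,
        zpow_two, h.z_sq, one_zpow, one_mul]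
  haveI hZn : Z₀.Normal := ⟨fun a ha g => by
    have : g * a * g⁻¹ = a := Subtype.ext (by
      show (g : Q) * a * (g : Q)⁻¹ = a
      rcases hZ₀mem a ha with h1 | h1 <;> rw [h1]
      · group
      · rw [← hzc, mul_inv_cancel_right])
    rw [this]; exact ha⟩
  set π := QuotientGroup.mk' Z₀ with hπ
  haveI hSn : (R.subgroupOf P).Normal := ⟨fun a ha g => by
    show (g : Q) * (a : Q) * (g : Q)⁻¹ ∈ R
    exact (Subgroup.mem_normalizer_iff.1 (hPn g.2) _).1 ha⟩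
  haveI hNn : ((R.subgroupOf P).map π).Normal :=
    hSn.map π (QuotientGroup.mk'_surjective Z₀)
  have hne : (R.subgroupOf P).map π ≠ ⊥ := by
    intro hb
    have h1 : π ⟨x, hxP⟩ = 1 := Subgroup.mem_bot.1 (hb ▸ ⟨⟨x, hxP⟩, hxR, rfl⟩)
    rcases hZ₀mem _ ((QuotientGroup.eq_one_iff _).1 h1) with h2 | h2
    exacts [(h.sq_ne_one hx).1 h2, (h.sq_ne_one hx).2 h2]
  have hQ : IsPGroup 2 (↥P ⧸ Z₀) := hP.of_surjective π (QuotientGroup.mk'_surjective Z₀)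
  have hM := PGroups.normal_inf_center_ne_bot hQ _ hne
  set M := (R.subgroupOf P).map π ⊓ Subgroup.center (↥P ⧸ Z₀) with hMdef
  haveI : Nontrivial ↥M := (Subgroup.nontrivial_iff_ne_bot M).2 hM
  obtain ⟨i, hi⟩ := (hQ.to_subgroup M).exists_card_eq
  have hdvd : 2 ∣ Nat.card ↥M := by
    rw [hi]
    refine dvd_pow_self 2 fun h0 => ?_
    rw [h0, pow_zero] at hi
    exact absurd (Finite.one_lt_card (α := ↥M)) (by omega)
  obtain ⟨a, ha⟩ := exists_prime_orderOf_dvd_card' 2 hdvd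
  obtain ⟨⟨u, hu, hua⟩, hac⟩ : (a : ↥P ⧸ Z₀) ∈ (R.subgroupOf P).map π ⊓ Subgroup.center (↥P ⧸ Z₀) :=
    a.2
  obtain ⟨ha2, ha1⟩ := orderOf_two ha
  have hu1 : u ∉ Z₀ := fun h1 => ha1 (Subtype.ext (hua.symm.trans ((QuotientGroup.eq_one_iff u).2 h1)))
  have hu2 : u * u ∈ Z₀ := by
    refine (QuotientGroup.eq_one_iff _).1 ?_
    show π (u * u) = 1
    rw [map_mul, hua, ← Subgroup.coe_mul, ha2]
    rfl
  have huz : (u : Q) * u = z := by
    refine (hZ₀mem _ hu2).resolve_left fun h1 => ?_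
    rcases h.uniq _ hu h1 with h3 | h3
    · exact hu1 (by rw [show u = 1 from Subtype.ext h3]; exact one_mem _)
    · exact hu1 (by rw [show u = ⟨z, hzP⟩ from Subtype.ext h3]; exact Subgroup.mem_zpowers _)
  refine ⟨u, u.2, hu, huz, fun p hp => ?_⟩
  have h1 : u⁻¹ * (⟨p, hp⟩ * u * ⟨p, hp⟩⁻¹) ∈ Z₀ := by
    refine QuotientGroup.eq.1 ?_
    show π u = π (⟨p, hp⟩ * u * ⟨p, hp⟩⁻¹)
    rw [map_mul, map_mul, map_inv, hua, Subgroup.mem_center_iff.1 hac, mul_inv_cancel_right]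
  rcases hZ₀mem _ h1 with h2 | h2
  · exact Or.inl (inv_mul_eq_one.1 h2).symm
  · exact Or.inr (inv_mul_eq_iff_eq_mul.1 h2)

variable {G : Type*} [Group G] [Finite G] {N : ℕ} {J K : Subgroup G} {zJ zK y : G}

local notation "R" => barS (Cen zJ) J
local notation "z" => bar (Cen zJ) zJ
local notation "Z" => bar (Cen zJ) zK
local notation "Y" => bar (Cen zJ) y

namespace Ctx

variable (c : Ctx N J K zJ zK y)
include c

theorem Z_eq_pow : ∃ k : ℕ, Z = (Y * Y) ^ k ∧ (Odd k → y ^ 4 = 1) := by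
  obtain ⟨k, hk⟩ := c.zK_pow
  refine ⟨k, by rw [hk, bar_pow (mul_mem c.yJ c.yJ), bar_mul c.yJ c.yJ], fun hodd => ?_⟩
  have h1 : ((y * y) * (y * y)) ^ k = 1 := by
    rw [(Commute.refl _).mul_pow, ← hk, c.hK.inv]
  have h2 : y ^ 4 = (y * y) * (y * y) := by
    rw [show (4 : ℕ) = 2 * 2 from rfl, pow_mul, pow_two, pow_two]
  exact OddEl.eq_one ⟨k, hodd, by rw [h2]; exact h1⟩ (c.y_two.pow 4)

/-- The element `y` has order 4. -/
theorem y_four : y ^ 4 = 1 := by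
  by_contra h4
  have hzc := bar_self_comm (G := G) zJ
  set β := Y * Y with hβ
  have hβn : β ∈ Subgroup.normalizer (R : Set (Qc (Cen zJ))) := by
    rw [hβ, ← bar_mul c.yJ c.yJ]
    refine Subgroup.mem_normalizer_iff.2 fun b => ⟨fun hb => ?_, fun hb => ?_⟩
    · exact c.hJ.bar_conj_mem (mul_mem c.yJ c.yJ) c.y_sq_norm hb
    · have h1 := c.hJ.bar_conj_mem (inv_mem (mul_mem c.yJ c.yJ)) (inv_mem c.y_sq_norm) hb
      rw [bar_inv (mul_mem c.yJ c.yJ)] at h1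
      set q := bar (Cen zJ) (y * y)
      rwa [show q⁻¹ * (q * b * q⁻¹) * q⁻¹⁻¹ = b by group] at h1
  obtain ⟨P, hP, hPn, hβP, x, hxP, hxR, hx, v₀, hv₀P, hv₀R, hv₀, hvx⟩ :=
    exists_pGroup_pair c.hJ.good ((two_bar c.yJ c.y_two).mul (two_bar c.yJ c.y_two) (Commute.refl Y)) hβn
  obtain ⟨u, huP, huR, hu, huc⟩ := exists_central_sqrt c.hJ.good hzc hP hPn hxP hxR hx
  have hβu : β * u * β⁻¹ = u := by
    refine (huc β hβP).resolve_right fun h => ?_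
    have h1 : Y * (Y * u * Y⁻¹) * Y⁻¹ = u * z := by rw [← h, hβ]; group
    obtain ⟨k, hk, hk4⟩ := c.Z_eq_pow
    -- `Z` fixes `u uʸ`
    have hcβ : Commute β (u * (Y * u * Y⁻¹)) := by
      show β * (u * (Y * u * Y⁻¹)) = u * (Y * u * Y⁻¹) * β
      rw [← mul_inv_eq_iff_eq_mul]
      calc β * (u * (Y * u * Y⁻¹)) * β⁻¹ = β * u * β⁻¹ * (Y * (β * u * β⁻¹) * Y⁻¹) := by
            rw [hβ]; group
        _ = u * z * (Y * u * Y⁻¹ * (Y * z * Y⁻¹)) := by rw [h]; group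
        _ = u * (z * (Y * u * Y⁻¹)) * z := by rw [← hzc Y, mul_inv_cancel_right]; group
        _ = u * (Y * u * Y⁻¹) * (z * z) := by rw [hzc (Y * u * Y⁻¹)]; group
        _ = _ := by rw [c.hJ.good.z_sq, mul_one]
    have hZ : Commute Z (u * (Y * u * Y⁻¹) * 1) := by
      rw [mul_one, hk]
      exact hcβ.pow_left k
    obtain ⟨w, hw, hwK, hwb⟩ := c.wLift hZ
    exact h4 (c.wLemma huR h1 (Or.inl rfl) hw hwK hwb).2.2
  obtain ⟨k, hk, hk4⟩ := c.Z_eq_pow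
  have hαu : Commute Z u := by
    rw [hk]
    exact Commute.pow_left (mul_inv_eq_iff_eq_mul.1 hβu) k
  obtain ⟨v₁, hv₁, hv₁K, hv₁b⟩ := exists_lift_fixed c.zKJ c.hK.inv hαu.symm.eq
  obtain ⟨hfix, hmoved⟩ := c.uLemma huR hu hαu hv₁ (mem_Cen.2 hv₁K) hv₁b
  have hZeq : Z = u * (Y * u⁻¹ * Y⁻¹) := by
    by_cases hn : v₁ ∈ Subgroup.normalizer (K : Set G)
    exacts [hfix hn, absurd (hmoved hn) h4]
  have hα : ∀ a ∈ R, Z * a * Z⁻¹ = u * a * u⁻¹ := fun a ha => by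
    rw [hZeq]
    calc u * (Y * u⁻¹ * Y⁻¹) * a * (u * (Y * u⁻¹ * Y⁻¹))⁻¹
        = u * ((Y * u⁻¹ * Y⁻¹) * a * (Y * u⁻¹ * Y⁻¹)⁻¹) * u⁻¹ := by group
      _ = _ := by rw [(c.comm ha (inv_mem huR)).symm.eq, mul_inv_cancel_right]
  -- an element of `P ∩ R` not commuting with `u`
  obtain ⟨v, hvP, hvR, hvu⟩ : ∃ v ∈ P, v ∈ R ∧ v * u * v⁻¹ = u * z := by
    by_contra hcon
    push Not at hcon
    have hcu : ∀ p ∈ P, p ∈ R → Commute p u := fun p hp hpR =>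
      mul_inv_eq_iff_eq_mul.1 ((huc p hp).resolve_right (hcon p hp hpR))
    have hall : ∀ p ∈ P, p ∈ R → p * p = z → p = u ∨ p = u * z := by
      intro p hp hpR hp2
      have h1 : u⁻¹ * p * (u⁻¹ * p) = 1 := by
        rw [(hcu p hp hpR).inv_right.mul_mul_mul_comm, hp2, ← mul_inv_rev, hu, inv_mul_cancel]
      rcases c.hJ.good.uniq _ (mul_mem (inv_mem huR) hpR) h1 with h2 | h2
      · exact Or.inl (inv_mul_eq_one.1 h2).symm
      · exact Or.inr (inv_mul_eq_iff_eq_mul.1 h2)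
    have hcx : Commute v₀ x := by
      have huz : Commute u (u * z) := (Commute.refl u).mul_right (hzc u).symm
      rcases hall v₀ hv₀P hv₀R hv₀ with h1 | h1 <;> rcases hall x hxP hxR hx with h2 | h2 <;> rw [h1, h2]
      all_goals first
        | exact Commute.refl _
        | exact huz
        | exact huz.symm
    rw [hcx.eq, mul_inv_cancel_right] at hvx
    exact c.hJ.good.z_ne (by rw [← hx]; exact mul_eq_one_iff_eq_inv.2 hvx)
  have hαv : Z * v * Z⁻¹ = v * z := by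
    rw [hα v hvR]
    have h1 : v * u = u * z * v := mul_inv_eq_iff_eq_mul.1 hvu
    calc u * v * u⁻¹ = (u * z * v) * z * u⁻¹ := by
          rw [mul_assoc (u * z), ← hzc v, ← mul_assoc, mul_assoc u z z, c.hJ.good.z_sq, mul_one]
      _ = v * (u * z) * u⁻¹ := by rw [← h1]; group
      _ = v * z := by rw [← hzc u]; group
  set b := β * v * β⁻¹ with hb
  have hbR : b ∈ R := (Subgroup.mem_normalizer_iff.1 hβn v).1 hvR
  set j := v * b⁻¹ with hj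
  have hjR : j ∈ R := mul_mem hvR (inv_mem hbR)
  have hj2 : Two j := by
    obtain ⟨i, hi⟩ := hP ⟨j, mul_mem hvP (inv_mem (mul_mem (mul_mem hβP hvP) (inv_mem hβP)))⟩
    exact ⟨i, by simpa using congrArg Subtype.val hi⟩
  have hj1 : j ≠ 1 ∧ j ≠ z := by
    have hpow : ∀ e : Qc (Cen zJ), b = v * e → (∀ q, Commute e q) →
        ∀ n : ℕ, β ^ n * v * (β ^ n)⁻¹ = v * e ^ n := by
      intro e he hec n
      induction n with
      | zero => simp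
      | succ n ih =>
        calc β ^ (n + 1) * v * (β ^ (n + 1))⁻¹ = β ^ n * (β * v * β⁻¹) * (β ^ n)⁻¹ := by
              rw [pow_succ]; group
          _ = β ^ n * v * (e * (β ^ n)⁻¹) := by rw [← hb, he]; group
          _ = β ^ n * v * (β ^ n)⁻¹ * e := by rw [(hec _).eq]; group
          _ = v * e ^ (n + 1) := by rw [ih, pow_succ, mul_assoc]
    refine ⟨fun h => ?_, fun h => ?_⟩
    · have he : b = v * 1 := by rw [mul_one]; exact (mul_inv_eq_one.1 h).symm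
      have h1 := hpow 1 he (fun q => Commute.one_left q) k
      rw [← hk, hαv, one_pow, mul_one] at h1
      exact c.hJ.good.z_ne (mul_eq_left.1 h1)
    · have he : b = v * z := by
        rw [← c.hJ.good.z_inv]
        have h2 : b⁻¹ = v⁻¹ * z := by rw [← h, hj, inv_mul_cancel_left]
        rw [← inv_inv b, h2, mul_inv_rev, inv_inv]
        exact (hzc v).trans rfl |> fun h3 => by rw [c.hJ.good.z_inv]; exact h3
      have h1 := hpow z he hzc k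
      rcases Nat.even_or_odd k with hk' | hk'
      · obtain ⟨l, rfl⟩ := hk'
        rw [← hk, hαv, ← two_mul, pow_mul, pow_two, c.hJ.good.z_sq, one_pow, mul_one] at h1
        exact c.hJ.good.z_ne (mul_eq_left.1 h1)
      · exact h4 (hk4 hk')
  -- a lift of `v vʸ`
  have hv' : Commute Z (v * (Y * v * Y⁻¹) * 1) := by
    show _ = _
    rw [mul_one, ← mul_inv_eq_iff_eq_mul]
    calc Z * (v * (Y * v * Y⁻¹)) * Z⁻¹ = Z * v * Z⁻¹ * (Z * Y * v * (Z * Y)⁻¹) := by group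
      _ = Z * v * Z⁻¹ * (Y * Z * v * (Y * Z)⁻¹) := by rw [c.Z_Y.eq]
      _ = Z * v * Z⁻¹ * (Y * (Z * v * Z⁻¹) * Y⁻¹) := by group
      _ = v * z * (Y * v * Y⁻¹ * (Y * z * Y⁻¹)) := by rw [hαv]; group
      _ = v * (z * (Y * v * Y⁻¹)) * z := by rw [← hzc Y, mul_inv_cancel_right]; group
      _ = v * (Y * v * Y⁻¹) * (z * z) := by rw [hzc (Y * v * Y⁻¹)]; group
      _ = _ := by rw [c.hJ.good.z_sq, mul_one]
  obtain ⟨w, hw, hwK, hwb⟩ := c.wLift hv'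
  rw [mul_one] at hwb
  have hwy : w * y * w⁻¹ ∈ Cen zJ := mul_mem (mul_mem hw c.yJ) (inv_mem hw)
  have hwyK : w * y * w⁻¹ ∈ Cen zK := mul_mem (mul_mem hwK c.yK) (inv_mem hwK)
  have hjb : bar (Cen zJ) (w * y * w⁻¹) = j * Y := by
    rw [bar_conj hw c.yJ, hwb, hj, hb, hβ]
    calc v * (Y * v * Y⁻¹) * Y * (v * (Y * v * Y⁻¹))⁻¹
        = v * ((Y * v * Y⁻¹) * (Y * Y * v⁻¹ * (Y * Y)⁻¹)) * ((Y * v⁻¹ * Y⁻¹) * Y) := by group
      _ = v * ((Y * Y * v⁻¹ * (Y * Y)⁻¹) * (Y * v * Y⁻¹)) * ((Y * v⁻¹ * Y⁻¹) * Y) := by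
          rw [show Y * Y * v⁻¹ * (Y * Y)⁻¹ = (β * v * β⁻¹)⁻¹ by
              rw [hβ]; simp only [mul_inv_rev, inv_inv, mul_assoc],
            (c.comm (inv_mem hbR) hvR).eq]
      _ = _ := by simp [mul_assoc]
  by_cases hn : w ∈ Subgroup.normalizer (K : Set G)
  · obtain ⟨n, hjn⟩ := c.hJ.good.exists_pow_sqrt hjR hj2 hj1.1 hj1.2
    set m := w * y * w⁻¹ * y⁻¹ with hm
    have hmJ : m ∈ Cen zJ := mul_mem hwy (inv_mem c.yJ)
    have hmK : m ∈ Cen zK := mul_mem hwyK (inv_mem c.yK)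
    have hmb : bar (Cen zJ) m = j := by
      rw [hm, bar_mul hwy (inv_mem c.yJ), bar_inv c.yJ, hjb, mul_inv_cancel_right]
    refine c.no_over_zJ (m := m ^ 2 ^ n * m ^ 2 ^ n) (mul_mem (pow_mem hmJ _) (pow_mem hmJ _))
      (mul_mem (pow_mem hmK _) (pow_mem hmK _)) ?_ ?_
    · rw [bar_mul (pow_mem hmJ _) (pow_mem hmJ _), bar_pow hmJ, hmb, hjn]
    · have hR : bar (Cen zK) m ∈ barS (Cen zK) K := by
        rw [hm, bar_comm hwK c.yK]
        exact mul_mem (c.hK.bar_conj_mem hwK hn (c.hK.bar_mem c.y_mem)) (inv_mem (c.hK.bar_mem c.y_mem))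
      rw [bar_mul (pow_mem hmK _) (pow_mem hmK _), bar_pow hmK]
      exact mul_mem (pow_mem hR _) (pow_mem hR _)
  · have hne : K.map (MulAut.conj w).toMonoidHom ≠ K := fun h =>
      hn (Subgroup.mem_normalizer_iff_map_conj_eq.2 h)
    have hY' := c.hK.conj_bar_mem hwK (c.hK.bar_mem c.y_mem)
    rw [← bar_conj hwK c.yK] at hY'
    have hcy : Commute (bar (Cen zK) y) (bar (Cen zK) (w * y * w⁻¹)) :=
      c.hK.commute (c.hK.conj_fix hwK) (Ne.symm hne) (c.hK.bar_mem c.y_mem) hY'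
    set m := y * (w * y * w⁻¹) * y⁻¹ * (w * y * w⁻¹)⁻¹ with hm
    have hmK : m ∈ Cen zK := mul_mem (mul_mem (mul_mem c.yK hwyK) (inv_mem c.yK)) (inv_mem hwyK)
    have hmJ : m ∈ Cen zJ := mul_mem (mul_mem (mul_mem c.yJ hwy) (inv_mem c.yJ)) (inv_mem hwy)
    have h1 : bar (Cen zK) m = 1 := by
      rw [hm, bar_comm c.yK hwyK, hcy.eq, mul_inv_cancel_right, mul_inv_cancel]
    have h2 := oddEl_bar (C := Cen zJ) hmJ (oddEl_of_bar hmK h1)
    rw [hm, bar_comm c.yJ hwy, hjb,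
      show Y * (j * Y) * Y⁻¹ * (j * Y)⁻¹ = Y * j * Y⁻¹ * j⁻¹ by group] at h2
    have h3 := h2.eq_one ((hj2.conj Y).mul hj2.inv (c.comm (inv_mem hjR) hjR).symm)
    exact (c.sig_ne hjR hj1.1 hj1.2) (mul_inv_eq_one.1 h3)

end Ctx

end Cfsg.Agent.Lib.Intrinsic76
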