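import Cfsg.Agent.Lib.Intrinsic76.Pair
import Cfsg.Agent.Lib.Balance.LBalanceTwo
import Cfsg.Agent.Lib.ComponentPairs.Basic
import Mathlib

/-!
# Components of `C(t̄)` lifted into the 2-layer of `C(s)` and their action on an intrinsic pair

Owner: helper76 (intrinsic SL₂-components).
-/

set_option autoImplicit false
set_option linter.style.haveILetI false
open Cfsg
open scoped commutatorElement

namespace Cfsg.Agent.Lib.Intrinsic76

open Components Balance

variable {G : Type*} [Group G] [Finite G] {N : ℕ} {t s : G}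

/-- `P` is a lift of the component `L` of the centralizer of the image of `s` in `C(t) / O(C(t))`. -/
structure IsLift (t s : G) (L : Subgroup (Qc (Cen t))) (P : Subgroup G) : Prop where
  le : P ≤ Cen t ⊓ Cen s
  le_layer : P ≤ pLayerOf 2 (Cen s)
  map_eq : barS (Cen t) P = L
  normal : ∀ N₀ : Subgroup G, N₀ ≤ P → P ≤ Subgroup.normalizer (N₀ : Set G) →
    N₀ = P ∨ ∀ a ∈ N₀, ∀ l ∈ L, Commute (bar (Cen t) a) l

theorem exists_isLift (ht : t * t = 1) (hs : s * s = 1) (hst : s ∈ Cen t)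
    {L : Subgroup (Qc (Cen t))} (hLs : L ≤ Subgroup.centralizer ({bar (Cen t) s} : Set (Qc (Cen t))))
    (hL : IsComponent (L.subgroupOf (Subgroup.centralizer ({bar (Cen t) s} : Set (Qc (Cen t))))))
    (heven : Even (Nat.card ↥L)) : ∃ P : Subgroup G, IsLift t s L P := by
  haveI : Fact (Nat.Prime 2) := ⟨Nat.prime_two⟩
  set D := Subgroup.centralizer ({bar (Cen t) s} : Set (Qc (Cen t))) with hD
  set Y := (Cen t) ⊓ Cen s with hY
  have hfD : ∀ a : ↥Y, bar (Cen t) (a : G) ∈ D := fun a => by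
    rw [hD, Subgroup.mem_centralizer_singleton_iff]
    exact (commute_bar a.2.1 hst (mem_Cen.1 a.2.2)).eq
  let f : ↥Y →* ↥D := MonoidHom.mk' (fun a => ⟨bar (Cen t) (a : G), hfD a⟩)
    fun a b => Subtype.ext (bar_mul a.2.1 b.2.1)
  have hf : Function.Surjective f := by
    rintro ⟨q, hq⟩
    rw [hD, Subgroup.mem_centralizer_singleton_iff] at hq
    obtain ⟨a, ha, has, haq⟩ := exists_lift_fixed hst hs hq
    exact ⟨⟨a, ha, mem_Cen.2 has⟩, Subtype.ext haq⟩
  -- `O(Y)` is the preimage of `O(D)`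
  have hcore : (pPrimeCore 2 ↥D).comap f = pPrimeCore 2 ↥Y := by
    refine le_antisymm (Cores.le_pPrimeCore ?_) (Subgroup.map_le_iff_le_comap.1
      (Cores.map_pPrimeCore_le f hf))
    have hk : (Nat.card ↥f.ker).Coprime 2 := by
      refine Nat.coprime_two_right.2 ((odd_core (Cen t)).of_dvd_nat ?_)
      refine dvd_trans ?_ (Subgroup.card_comap_dvd_of_injective (coreIn 2 (Cen t)) Y.subtype Y.subtype_injective)
      refine Subgroup.card_dvd_of_le fun a ha => ?_
      exact (bar_eq_one_iff a.2.1).1 (congrArg Subtype.val (MonoidHom.mem_ker.1 ha))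
    set A := (pPrimeCore 2 ↥D).comap f
    have hle : f.ker ≤ A := fun a ha => by
      show f a ∈ pPrimeCore 2 ↥D
      rw [MonoidHom.mem_ker.1 ha]
      exact one_mem _
    have h1 := Subgroup.relIndex_mul_relIndex (⊥ : Subgroup ↥Y) _ A bot_le hle
    rw [Subgroup.relIndex_bot_left, Subgroup.relIndex_bot_left] at h1
    rw [← h1]
    refine hk.mul_left ?_
    have h2 := Subgroup.relIndex_comap (⊥ : Subgroup ↥D) f A
    rw [MonoidHom.comap_bot, Subgroup.relIndex_bot_left, Subgroup.map_comap_eq_self_of_surjective hf] at h2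
    rw [h2]
    exact Cores.pPrimeCore_coprime 2
  set πY := QuotientGroup.mk' (pPrimeCore 2 ↥Y) with hπY
  set πD := QuotientGroup.mk' (pPrimeCore 2 ↥D) with hπD
  let g : ↥Y ⧸ pPrimeCore 2 ↥Y →* ↥D ⧸ pPrimeCore 2 ↥D :=
    QuotientGroup.map _ _ f hcore.ge
  have hg : Function.Bijective g := by
    refine ⟨(injective_iff_map_eq_one g).2 fun x hx => ?_, fun y => ?_⟩
    · obtain ⟨a, rfl⟩ := QuotientGroup.mk'_surjective _ x
      have h1 : f a ∈ pPrimeCore 2 ↥D := (QuotientGroup.eq_one_iff _).1 hx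
      exact (QuotientGroup.eq_one_iff _).2 (hcore.le h1)
    · obtain ⟨d, rfl⟩ := QuotientGroup.mk'_surjective _ y
      obtain ⟨a, rfl⟩ := hf d
      exact ⟨πY a, rfl⟩
  let e := MulEquiv.ofBijective g hg
  set L' := L.subgroupOf D with hL'
  have heven' : Even (Nat.card ↥L') := by
    rwa [hL', Nat.card_congr (Subgroup.subgroupOfEquivOfLe hLs).toEquiv]
  have hLp : IsPComponent 2 L' := ComponentPairs.isPComponent_two hL heven'
  obtain ⟨P', hP', hP'e⟩ := PComponent.exists_over (Component.map_equiv e.symm hLp.2.1)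
  have himg : (P'.map f).map πD = L'.map πD := by
    have h1 : (P'.map πY).map e.toMonoidHom = L'.map πD := by
      rw [hP'e, Subgroup.map_map]
      exact (congrArg (fun φ => (L'.map πD).map φ)
        (MonoidHom.ext fun x => e.apply_symm_apply x)).trans (Subgroup.map_id _)
    rw [← h1, Subgroup.map_map, Subgroup.map_map]
    rfl
  have hPf : P'.map f = L' := by
    refine le_antisymm ?_ (PComponent.le_of_subnormal hLp (hP'.1.map (f := f) hf) ?_)
    · rw [Subgroup.map_le_iff_le_comap]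
      refine PComponent.le_of_subnormal hP' (hLp.1.comap f) fun x hx => ?_
      obtain ⟨l, hl, hle⟩ : πD (f x) ∈ L'.map πD :=
        himg ▸ Subgroup.mem_map_of_mem πD (Subgroup.mem_map_of_mem f hx)
      obtain ⟨x₁, rfl⟩ := hf l
      have h1 : x₁⁻¹ * x ∈ pPrimeCore 2 ↥Y := hcore.le (by
        show f (x₁⁻¹ * x) ∈ pPrimeCore 2 ↥D
        rw [map_mul, map_inv]
        exact QuotientGroup.eq.1 hle)
      have h2 := Subgroup.mul_mem_sup (show x₁ ∈ L'.comap f from hl) h1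
      rwa [mul_inv_cancel_left] at h2
    · intro l hl
      obtain ⟨p, hp, hpe⟩ : πD l ∈ (P'.map f).map πD := himg.symm ▸ Subgroup.mem_map_of_mem πD hl
      have h2 := Subgroup.mul_mem_sup hp (QuotientGroup.eq.1 hpe : p⁻¹ * l ∈ pPrimeCore 2 ↥D)
      rwa [mul_inv_cancel_left] at h2
  refine ⟨P'.map Y.subtype, ⟨Subgroup.map_subtype_le _, ?_, ?_, ?_⟩⟩
  · -- the 2-layer of `C(s)`
    set X := Cen s with hX
    have htX : t ∈ X := mem_Cen.2 (mem_Cen.1 hst).symm
    set t' : ↥X := ⟨t, htX⟩ with ht'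
    have hT : IsPGroup 2 ↥(Subgroup.zpowers t') :=
      (two_of_mul_self (show t' * t' = 1 from Subtype.ext ht)).isPGroup
    have hbal := Balance.twoLayer_centralizer_le (X := ↥X)
      (fun G _ _ P t ht htP h => S0215.result P t ht htP h) hT
    rw [Subgroup.zpowers_eq_closure, Subgroup.centralizer_closure] at hbal
    let ψ : ↥Y ≃* ↥(Subgroup.centralizer ({t'} : Set ↥X)) :=
      { toFun := fun a => ⟨⟨(a : G), a.2.2⟩, Subgroup.mem_centralizer_singleton_iff.2
          (Subtype.ext (mem_Cen.1 a.2.1))⟩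
        invFun := fun a => ⟨((a : ↥X) : G), mem_Cen.2
          (congrArg Subtype.val (Subgroup.mem_centralizer_singleton_iff.1 a.2)), (a : ↥X).2⟩
        left_inv := fun a => rfl
        right_inv := fun a => rfl
        map_mul' := fun a b => rfl }
    have h1 : P'.map ψ.toMonoidHom ≤ pLayer 2 ↥(Subgroup.centralizer ({t'} : Set ↥X)) :=
      le_sSup (PComponent.map_equiv ψ hP')
    rintro _ ⟨p, hp, rfl⟩
    exact ⟨(ψ p : ↥X), hbal ⟨ψ p, h1 ⟨p, hp, rfl⟩, rfl⟩, rfl⟩
  · refine le_antisymm ?_ fun q hq => ?_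
    · intro q hq
      obtain ⟨_, ⟨p, hp, rfl⟩, -, rfl⟩ := mem_barS.1 hq
      exact (hPf.le (Subgroup.mem_map_of_mem f hp) : f p ∈ L')
    · obtain ⟨p, hp, hpe⟩ := hPf.ge (show (⟨q, hLs hq⟩ : ↥D) ∈ L' from hq)
      exact mem_barS.2 ⟨p, ⟨p, hp, rfl⟩, p.2.1, congrArg Subtype.val hpe⟩
  · intro N₀ hN₀ hn
    set N' := N₀.subgroupOf Y with hN'
    have hN'P : N' ≤ P' := fun a ha => by
      obtain ⟨p, hp, hpa⟩ := hN₀ ha
      exact Y.subtype_injective hpa ▸ hp
    have hnY : P' ≤ Subgroup.normalizer (N' : Set ↥Y) := fun p hp =>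
      Subgroup.mem_normalizer_iff.2 fun x =>
        Subgroup.mem_normalizer_iff.1 (hn ⟨p, hp, rfl⟩) (x : G)
    rcases pComponent_normal_sub hP' hN'P hnY with he | hc
    · left
      rw [← he, hN', Subgroup.map_subgroupOf_eq_of_le (hN₀.trans (Subgroup.map_subtype_le _))]
    · right
      intro a ha l hl
      obtain ⟨p, hp, rfl⟩ := hN₀ ha
      -- commutators with `L'` lie in `O(D) ∩ L'`
      have h1 : ⁅N'.map f, L'⁆ ≤ pPrimeCore 2 ↥D ⊓ L' := by
        rw [← hPf, Subgroup.commutator_le]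
        rintro _ ⟨n, hn', rfl⟩ _ ⟨q, hq, rfl⟩
        rw [← map_commutatorElement]
        refine ⟨?_, Subgroup.mem_map_of_mem f ?_⟩
        · refine hcore.ge ?_
          rw [← QuotientGroup.eq_one_iff]
          show πY ⁅n, q⁆ = 1
          rw [map_commutatorElement, commutatorElement_eq_one_iff_commute]
          exact (Subgroup.mem_centralizer_iff.1 (hc (Subgroup.mem_map_of_mem πY hn')) _
            (Subgroup.mem_map_of_mem πY hq)).symm
        · exact P'.mul_mem (P'.mul_mem (P'.mul_mem (hN'P hn') hq) (inv_mem (hN'P hn'))) (inv_mem hq)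
      have h2 : ⁅pPrimeCore 2 ↥D ⊓ L', L'⁆ = ⊥ := by
        refine (Component.le_or_commutator_eq_bot hL
          ((pPrimeCore_normal 2 ↥D).isSubnormal.inf hLp.1)).resolve_left fun hle => ?_
        have hodd := Nat.coprime_two_right.1 (Cores.pPrimeCore_coprime (G := ↥D) 2)
        have := hodd.of_dvd_nat (Subgroup.card_dvd_of_le (le_trans hle inf_le_left))
        exact Nat.not_even_iff_odd.2 this heven'
      have h3 : ⁅N'.map f, L'⁆ = ⊥ := commutator_eq_bot_of_perfect (PComponent.commutator_self hLp)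
        (le_bot_iff.1 ((Subgroup.commutator_mono h1 le_rfl).trans h2.le))
      have h4 := Subgroup.commutator_eq_bot_iff_le_centralizer.1 h3
        (Subgroup.mem_map_of_mem f (show p ∈ N' from ha))
      exact (congrArg Subtype.val (Subgroup.mem_centralizer_iff.1 h4 ⟨l, hLs hl⟩ hl)).symm

variable {K : Subgroup G}

namespace IP

/-- Elements of the 2-layer of `C(s)` induce inner automorphisms on the image of `K`. -/
theorem exists_inner (h : IP N s K) {w : G} (hw : w ∈ pLayerOf 2 (Cen s)) :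
    w ∈ Cen s ∧ ∃ r ∈ barS (Cen s) K, ∀ b ∈ barS (Cen s) K,
      bar (Cen s) w * b * (bar (Cen s) w)⁻¹ = r * b * r⁻¹ := by
  haveI : Fact (Nat.Prime 2) := ⟨Nat.prime_two⟩
  obtain ⟨a, ha, rfl⟩ := hw
  refine ⟨a.2, ?_⟩
  set R := barS (Cen s) K with hR
  let I : Subgroup (Qc (Cen s)) :=
    { carrier := {q | ∃ r ∈ R, ∀ b ∈ R, q * b * q⁻¹ = r * b * r⁻¹}
      one_mem' := ⟨1, R.one_mem, fun b _ => rfl⟩
      mul_mem' := by
        rintro p q ⟨r, hr, hp⟩ ⟨r', hr', hq⟩
        refine ⟨r * r', mul_mem hr hr', fun b hb => ?_⟩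
        calc p * q * b * (p * q)⁻¹ = p * (q * b * q⁻¹) * p⁻¹ := by group
          _ = p * (r' * b * r'⁻¹) * p⁻¹ := by rw [hq b hb]
          _ = r * (r' * b * r'⁻¹) * r⁻¹ := hp _ (mul_mem (mul_mem hr' hb) (inv_mem hr'))
          _ = _ := by group
      inv_mem' := by
        rintro p ⟨r, hr, hp⟩
        refine ⟨r⁻¹, inv_mem hr, fun b hb => ?_⟩
        have h1 := hp (r⁻¹ * b * r) (mul_mem (mul_mem (inv_mem hr) hb) hr)
        rw [show r * (r⁻¹ * b * r) * r⁻¹ = b by group] at h1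
        rw [inv_inv, inv_inv]
        nth_rewrite 1 [← h1]
        group }
  have hI : layer (Qc (Cen s)) ≤ I := by
    refine sSup_le fun L hL q hq => ?_
    by_cases he : L = R
    · exact ⟨q, he ▸ hq, fun b _ => rfl⟩
    · refine ⟨1, R.one_mem, fun b hb => ?_⟩
      rw [← Subgroup.mem_centralizer_iff.1 (Component.le_centralizer_of_ne hL h.isComponent he hq) b hb]
      group
  show bar (Cen s) (a : G) ∈ I
  rw [bar_coe]
  exact hI (PComponent.map_pLayer.le (Subgroup.mem_map_of_mem _ ha))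

theorem layer_le_normalizer (h : IP N s K) {w : G} (hw : w ∈ pLayerOf 2 (Cen s)) :
    w ∈ Subgroup.normalizer (K : Set G) := by
  obtain ⟨hwC, r, hr, hrb⟩ := h.exists_inner hw
  refine h.mem_normalizer hwC fun q hq => ?_
  rw [hrb q hq]
  exact mul_mem (mul_mem hr hq) (inv_mem hr)

variable {L : Subgroup (Qc (Cen t))} {P : Subgroup G}

/-- A lift acts trivially on the image of `K` or induces every inner automorphism. -/
theorem dichotomy (h : IP N s K) (hP : IsLift t s L P)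
    (hcard : N ≤ 2 * (Subgroup.center ↥L).index) :
    (∀ p ∈ P, ∀ b ∈ barS (Cen s) K, bar (Cen s) p * b = b * bar (Cen s) p) ∨
    (∀ r ∈ barS (Cen s) K, ∃ p ∈ P, ∀ b ∈ barS (Cen s) K,
      bar (Cen s) p * b * (bar (Cen s) p)⁻¹ = r * b * r⁻¹) := by
  set R := barS (Cen s) K with hR
  have hn : ∀ p : ↥P, bar (Cen s) (p : G) ∈ Subgroup.normalizer (R : Set (Qc (Cen s))) := fun p => by
    obtain ⟨hpC, r, hr, hrb⟩ := h.exists_inner (hP.le_layer p.2)
    refine Subgroup.mem_normalizer_iff.2 fun b => ⟨fun hb => ?_, fun hb => ?_⟩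
    · rw [hrb b hb]
      exact mul_mem (mul_mem hr hb) (inv_mem hr)
    · set q := bar (Cen s) (p : G)
      set b' := q * b * q⁻¹
      have h1 := hrb (r⁻¹ * b' * r) (mul_mem (mul_mem (inv_mem hr) hb) hr)
      rw [show r * (r⁻¹ * b' * r) * r⁻¹ = b' by group] at h1
      have h2 : r⁻¹ * b' * r = b := mul_left_cancel (mul_right_cancel h1)
      rw [← h2]
      exact mul_mem (mul_mem (inv_mem hr) hb) hr
  let f : ↥P →* MulAut ↥R := R.normalizerMonoidHom.comp
    (MonoidHom.mk' (fun p => ⟨bar (Cen s) (p : G), hn p⟩)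
      fun p q => Subtype.ext (bar_mul (hP.le p.2).2 (hP.le q.2).2))
  have hf : ∀ (p : ↥P) (b : ↥R),
      ((f p b : ↥R) : Qc (Cen s)) = bar (Cen s) (p : G) * b * (bar (Cen s) (p : G))⁻¹ := fun _ _ => rfl
  have hrange : f.range ≤ (MulAut.conj (G := ↥R)).range := by
    rintro _ ⟨p, rfl⟩
    obtain ⟨-, r, hr, hrb⟩ := h.exists_inner (hP.le_layer p.2)
    exact ⟨⟨r, hr⟩, MulEquiv.ext fun b => Subtype.ext (hrb b b.2).symm⟩
  rcases hP.normal (f.ker.map P.subtype) (Subgroup.map_subtype_le _) (by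
      refine le_trans (le_of_eq ?_) (Subgroup.le_normalizer_map P.subtype)
      rw [Subgroup.normalizer_eq_top (H := f.ker), ← MonoidHom.range_eq_map, Subgroup.range_subtype])
    with he | hc
  · left
    intro p hp b hb
    obtain ⟨k, hk, hkp⟩ := he.ge hp
    have h1 := congrArg (fun φ : MulAut ↥R => ((φ ⟨b, hb⟩ : ↥R) : Qc (Cen s))) (MonoidHom.mem_ker.1 hk)
    simp only [hf, MulAut.one_apply] at h1
    rw [show (k : G) = p from hkp] at h1
    exact mul_inv_eq_iff_eq_mul.1 h1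
  · right
    let φ : ↥P →* ↥L := MonoidHom.mk' (fun p => ⟨bar (Cen t) (p : G),
        hP.map_eq.le (bar_mem_barS p.2 (hP.le p.2).1)⟩)
      fun p q => Subtype.ext (bar_mul (hP.le p.2).1 (hP.le q.2).1)
    have hφ : Function.Surjective φ := by
      rintro ⟨l, hl⟩
      obtain ⟨p, hp, -, rfl⟩ := mem_barS.1 (hP.map_eq.ge hl)
      exact ⟨⟨p, hp⟩, rfl⟩
    have hk : f.ker ≤ (Subgroup.center ↥L).comap φ := fun p hp =>
      Subgroup.mem_center_iff.2 fun l => Subtype.ext (hc _ ⟨p, hp, rfl⟩ l l.2).eq.symm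
    have h1 : (Subgroup.center ↥L).index ≤ f.ker.index := by
      rw [← Subgroup.index_comap_of_surjective _ hφ]
      exact Nat.le_of_dvd (Nat.pos_of_ne_zero Subgroup.index_ne_zero_of_finite) (Subgroup.index_dvd_of_le hk)
    have h2 : f.range = (MulAut.conj (G := ↥R)).range := by
      refine Subgroup.eq_of_le_of_card_ge hrange ?_
      have hker : (MulAut.conj (G := ↥R)).ker = Subgroup.center ↥R := by
        ext r
        refine ⟨fun hr => Subgroup.mem_center_iff.2 fun b => ?_, fun hr => MulEquiv.ext fun b => ?_⟩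
        · have h3 := congrArg (fun φ : MulAut ↥R => φ b) (MonoidHom.mem_ker.1 hr)
          simp only [MulAut.conj_apply, MulAut.one_apply] at h3
          exact (mul_inv_eq_iff_eq_mul.1 h3).symm
        · simp only [MulAut.conj_apply, MulAut.one_apply]
          rw [← Subgroup.mem_center_iff.1 hr b, mul_inv_cancel_right]
      rw [← Subgroup.index_ker, ← Subgroup.index_ker, hker]
      have := h.two_mul_index
      rw [← hR] at this
      omega
    intro r hr
    obtain ⟨p, hp⟩ := h2.ge (show MulAut.conj (⟨r, hr⟩ : ↥R) ∈ (MulAut.conj (G := ↥R)).range from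
      ⟨_, rfl⟩)
    refine ⟨p, p.2, fun b hb => ?_⟩
    rw [← hf p ⟨b, hb⟩, hp]
    rfl

/-- If a lift induces every inner automorphism, elements of odd order subgroups it normalizes
induce only the trivial inner automorphism. -/
theorem eq_of_odd_inner (h : IP N s K) (hP : P ≤ Cen s)
    (honto : ∀ r ∈ barS (Cen s) K, ∃ p ∈ P, ∀ b ∈ barS (Cen s) K,
      bar (Cen s) p * b * (bar (Cen s) p)⁻¹ = r * b * r⁻¹)
    {M : Subgroup G} (hM : M ≤ Cen s) (hodd : Odd (Nat.card ↥M))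
    (hn : ∀ p ∈ P, ∀ m ∈ M, p * m * p⁻¹ ∈ M) {m : G} (hm : m ∈ M) {r : Qc (Cen s)}
    (hr : r ∈ barS (Cen s) K)
    (hrm : ∀ b ∈ barS (Cen s) K,
      bar (Cen s) m * b * (bar (Cen s) m)⁻¹ = r * b * r⁻¹) :
    r = 1 ∨ r = bar (Cen s) s := by
  let S : Subgroup ↥(barS (Cen s) K) :=
    { carrier := {r | ∃ m ∈ M, ∀ b ∈ barS (Cen s) K, bar (Cen s) m * b * (bar (Cen s) m)⁻¹ = (r : Qc (Cen s)) * b * (r : Qc (Cen s))⁻¹}
      one_mem' := ⟨1, M.one_mem, fun b _ => by rw [bar_one]; rfl⟩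
      mul_mem' := by
        rintro r r' ⟨m, hm, hmb⟩ ⟨m', hm', hmb'⟩
        refine ⟨m * m', mul_mem hm hm', fun b hb => ?_⟩
        rw [bar_mul (hM hm) (hM hm'), Subgroup.coe_mul]
        calc bar (Cen s) m * bar (Cen s) m' * b * (bar (Cen s) m * bar (Cen s) m')⁻¹
            = bar (Cen s) m * (bar (Cen s) m' * b * (bar (Cen s) m')⁻¹) * (bar (Cen s) m)⁻¹ := by group
          _ = bar (Cen s) m * ((r' : Qc (Cen s)) * b * (r' : Qc (Cen s))⁻¹) * (bar (Cen s) m)⁻¹ := by rw [hmb' b hb]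
          _ = (r : Qc (Cen s)) * ((r' : Qc (Cen s)) * b * (r' : Qc (Cen s))⁻¹) * (r : Qc (Cen s))⁻¹ :=
              hmb _ (mul_mem (mul_mem r'.2 hb) (inv_mem r'.2))
          _ = _ := by group
      inv_mem' := by
        rintro r ⟨m, hm, hmb⟩
        refine ⟨m⁻¹, inv_mem hm, fun b hb => ?_⟩
        have h1 := hmb ((r : Qc (Cen s))⁻¹ * b * r) (mul_mem (mul_mem (inv_mem r.2) hb) r.2)
        rw [show (r : Qc (Cen s)) * ((r : Qc (Cen s))⁻¹ * b * r) * (r : Qc (Cen s))⁻¹ = b by group] at h1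
        rw [bar_inv (hM hm), Subgroup.coe_inv, inv_inv, inv_inv]
        nth_rewrite 1 [← h1]
        group }
  have hSn : S.Normal := ⟨fun x ⟨m, hm, hmb⟩ q => by
    obtain ⟨p, hp, hpb⟩ := honto q q.2
    refine ⟨p * m * p⁻¹, hn p hp m hm, fun b hb => ?_⟩
    have h1 := hpb ((q : Qc (Cen s))⁻¹ * b * q) (mul_mem (mul_mem (inv_mem q.2) hb) q.2)
    rw [show (q : Qc (Cen s)) * ((q : Qc (Cen s))⁻¹ * b * q) * (q : Qc (Cen s))⁻¹ = b by group] at h1
    rw [bar_conj (hP hp) (hM hm)]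
    simp only [Subgroup.coe_mul, Subgroup.coe_inv]
    nth_rewrite 1 [← h1]
    rw [show bar (Cen s) p * bar (Cen s) m * (bar (Cen s) p)⁻¹ * (bar (Cen s) p * ((q : Qc (Cen s))⁻¹ * b * q) * (bar (Cen s) p)⁻¹) *
        (bar (Cen s) p * bar (Cen s) m * (bar (Cen s) p)⁻¹)⁻¹ =
      bar (Cen s) p * (bar (Cen s) m * ((q : Qc (Cen s))⁻¹ * b * q) * (bar (Cen s) m)⁻¹) * (bar (Cen s) p)⁻¹ by group,
      hmb _ (mul_mem (mul_mem (inv_mem q.2) hb) q.2),
      hpb _ (mul_mem (mul_mem x.2 (mul_mem (mul_mem (inv_mem q.2) hb) q.2)) (inv_mem x.2))]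
    group⟩
  rcases Quasisimple.normal_le_center_or_eq_top h.good.qs hSn with hc | ht
  · exact h.good.mem_center_iff.1 (hc (⟨m, hm, hrm⟩ : (⟨r, hr⟩ : ↥(barS (Cen s) K)) ∈ S))
  · exfalso
    obtain ⟨x, hx, hx2⟩ := h.good.sqrt
    obtain ⟨m', hm', hmb⟩ : (⟨x, hx⟩ : ↥(barS (Cen s) K)) ∈ S := ht ▸ Subgroup.mem_top _
    obtain ⟨k, hk, hk1⟩ := oddEl_of_mem hodd hm'
    have hpow : ∀ j : ℕ, ∀ b ∈ barS (Cen s) K, bar (Cen s) m' ^ j * b * (bar (Cen s) m' ^ j)⁻¹ = x ^ j * b * (x ^ j)⁻¹ := by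
      intro j
      induction j with
      | zero => intro b _; simp
      | succ j ih =>
        intro b hb
        rw [pow_succ, pow_succ]
        calc bar (Cen s) m' ^ j * bar (Cen s) m' * b * (bar (Cen s) m' ^ j * bar (Cen s) m')⁻¹
            = bar (Cen s) m' ^ j * (bar (Cen s) m' * b * (bar (Cen s) m')⁻¹) * (bar (Cen s) m' ^ j)⁻¹ := by group
          _ = bar (Cen s) m' ^ j * (x * b * x⁻¹) * (bar (Cen s) m' ^ j)⁻¹ := by rw [hmb b hb]
          _ = x ^ j * (x * b * x⁻¹) * (x ^ j)⁻¹ := ih _ (mul_mem (mul_mem hx hb) (inv_mem hx))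
          _ = _ := by group
    have hxk : (x ^ k) * (x ^ k) = bar (Cen s) s := by
      rw [← (Commute.refl x).mul_pow k, hx2, pow_odd_of_mul_self h.good.z_sq hk]
    refine h.good.not_central (pow_mem hx k) hxk fun b hb => ?_
    have h1 := hpow k b hb
    rw [← bar_pow (hM hm'), hk1, bar_one] at h1
    simp only [one_mul, inv_one, mul_one] at h1
    exact mul_inv_eq_iff_eq_mul.1 h1.symm

/-- An element of a lift with central image in `L` centralizes the image of `K`. -/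
theorem centralize_of_central (h : IP N s K) (hP : IsLift t s L P)
    (hcard : N ≤ 2 * (Subgroup.center ↥L).index) {e : G} (he : e ∈ P)
    (hez : ∀ l ∈ L, bar (Cen t) e * l = l * bar (Cen t) e) :
    ∀ b ∈ barS (Cen s) K, bar (Cen s) e * b = b * bar (Cen s) e := by
  rcases h.dichotomy hP hcard with htr | honto
  · exact htr e he
  obtain ⟨heC, r, hr, hrb⟩ := h.exists_inner (hP.le_layer he)
  set M := coreIn 2 (Cen t) ⊓ (Cen s) with hM
  have hodd : Odd (Nat.card ↥M) := (odd_core (Cen t)).of_dvd_nat (Subgroup.card_dvd_of_le inf_le_left)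
  have hPs : ∀ {p : G}, p ∈ P → p ∈ Cen s := fun hp => (hP.le hp).2
  have hn : ∀ p ∈ P, ∀ m ∈ M, p * m * p⁻¹ ∈ M := fun p hp m hm =>
    ⟨(Subgroup.mem_normalizer_iff.1 (le_normalizer_coreIn (Cen t) (hP.le hp).1) m).1 hm.1,
      (Cen s).mul_mem ((Cen s).mul_mem (hPs hp) hm.2) ((Cen s).inv_mem (hPs hp))⟩
  have hr' : r = 1 ∨ r = bar (Cen s) s := by
    refine h.good.cent₂ hr fun q hq => ?_
    obtain ⟨p, hp, hpb⟩ := honto q hq
    have hpt : p ∈ Cen t := (hP.le hp).1
    have het : e ∈ Cen t := (hP.le he).1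
    have hm : e * p * e⁻¹ * p⁻¹ ∈ M := by
      refine ⟨(bar_eq_one_iff (mul_mem (mul_mem (mul_mem het hpt) (inv_mem het)) (inv_mem hpt))).1 ?_,
        (Cen s).mul_mem ((Cen s).mul_mem ((Cen s).mul_mem heC (hPs hp)) ((Cen s).inv_mem heC))
          ((Cen s).inv_mem (hPs hp))⟩
      rw [bar_comm het hpt, hez _ (hP.map_eq.le (bar_mem_barS hp hpt)), mul_inv_cancel_right,
        mul_inv_cancel]
    refine h.eq_of_odd_inner (hP.le.trans inf_le_right) honto inf_le_right hodd hn hm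
      (mul_mem (mul_mem (mul_mem hr hq) (inv_mem hr)) (inv_mem hq)) fun b hb => ?_
    rw [bar_comm heC (hPs hp)]
    have hb1 : q⁻¹ * b * q ∈ barS (Cen s) K := mul_mem (mul_mem (inv_mem hq) hb) hq
    have hb2 : r⁻¹ * (q⁻¹ * b * q) * r ∈ barS (Cen s) K := mul_mem (mul_mem (inv_mem hr) hb1) hr
    have hb3 : q * (r⁻¹ * (q⁻¹ * b * q) * r) * q⁻¹ ∈ barS (Cen s) K := mul_mem (mul_mem hq hb2) (inv_mem hq)
    have e1 := hpb (q⁻¹ * b * q) hb1
    rw [show q * (q⁻¹ * b * q) * q⁻¹ = b by group] at e1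
    have e2 := hrb (r⁻¹ * (q⁻¹ * b * q) * r) hb2
    rw [show r * (r⁻¹ * (q⁻¹ * b * q) * r) * r⁻¹ = q⁻¹ * b * q by group] at e2
    nth_rewrite 1 [← e1, ← e2]
    rw [show bar (Cen s) e * bar (Cen s) p * (bar (Cen s) e)⁻¹ * (bar (Cen s) p)⁻¹ *
        (bar (Cen s) p * (bar (Cen s) e * (r⁻¹ * (q⁻¹ * b * q) * r) * (bar (Cen s) e)⁻¹) * (bar (Cen s) p)⁻¹) *
        (bar (Cen s) e * bar (Cen s) p * (bar (Cen s) e)⁻¹ * (bar (Cen s) p)⁻¹)⁻¹ =
      bar (Cen s) e * (bar (Cen s) p * (r⁻¹ * (q⁻¹ * b * q) * r) * (bar (Cen s) p)⁻¹) * (bar (Cen s) e)⁻¹ by group,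
      hpb _ hb2, hrb _ hb3]
    group
  intro b hb
  refine mul_inv_eq_iff_eq_mul.1 ((hrb b hb).trans ?_)
  rcases hr' with rfl | rfl
  · group
  · rw [h.good.z_comm hb, mul_inv_cancel_right]

/-- An element commuting with a lift which induces every inner automorphism centralizes the image
of `K`, if it normalizes it. -/
theorem centralize_of_commute (h : IP N s K) (hP : P ≤ Cen s)
    (honto : ∀ r ∈ barS (Cen s) K, ∃ p ∈ P, ∀ b ∈ barS (Cen s) K,
      bar (Cen s) p * b * (bar (Cen s) p)⁻¹ = r * b * r⁻¹)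
    {w : G} (hwC : w ∈ Cen s) (hwn : w ∈ Subgroup.normalizer (K : Set G))
    (hw : ∀ p ∈ P, w * p = p * w) :
    ∀ b ∈ barS (Cen s) K, bar (Cen s) w * b = b * bar (Cen s) w := by
  set C := Cen s
  set R := barS C K
  refine h.good.fix_of_central fun q hq => ?_
  obtain ⟨p, hp, hpb⟩ := honto q hq
  have hq' : bar C w * q * (bar C w)⁻¹ ∈ R := h.bar_conj_mem hwC hwn hq
  have hc := (commute_bar hwC (hP hp) (hw p hp)).eq
  have hact : ∀ c ∈ R, bar C w * q * (bar C w)⁻¹ * c * (bar C w * q * (bar C w)⁻¹)⁻¹ =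
      q * c * q⁻¹ := by
    intro c hc'
    have hcw : (bar C w)⁻¹ * c * bar C w ∈ R := by
      have h0 := h.bar_conj_mem (inv_mem hwC) (inv_mem hwn) hc'
      rwa [bar_inv hwC, inv_inv] at h0
    rw [show bar C w * q * (bar C w)⁻¹ * c * (bar C w * q * (bar C w)⁻¹)⁻¹ =
      bar C w * (q * ((bar C w)⁻¹ * c * bar C w) * q⁻¹) * (bar C w)⁻¹ by group, ← hpb _ hcw,
      ← hpb c hc']
    calc bar C w * (bar C p * ((bar C w)⁻¹ * c * bar C w) * (bar C p)⁻¹) * (bar C w)⁻¹
        = (bar C w * bar C p) * (bar C w)⁻¹ * c * bar C w * ((bar C w * bar C p)⁻¹) := by group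
      _ = (bar C p * bar C w) * (bar C w)⁻¹ * c * bar C w * ((bar C p * bar C w)⁻¹) := by rw [hc]
      _ = _ := by group
  rcases h.good.eq_mod_center hq' hq hact with h3 | h3
  · left
    rw [← inv_mul_eq_one.1 h3, mul_inv_cancel]
  · right
    rw [inv_mul_eq_iff_eq_mul.1 h3, ← h.good.z_comm hq, mul_inv_cancel_right]

end IP

end Cfsg.Agent.Lib.Intrinsic76
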