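import Cfsg.Agent.Lib.Intrinsic76.Lift
import Mathlib

/-!
# The key non-existence lemma for lifts

Owner: helper76 (intrinsic SL₂-components).
-/

set_option autoImplicit false
set_option linter.style.haveILetI false
open Cfsg

namespace Cfsg.Agent.Lib.Intrinsic76

open Components Balance

/-- `u` induces on `R` the inner automorphism of `r`. -/
def Acts {Q : Type*} [Group Q] (R : Subgroup Q) (u r : Q) : Prop :=
  ∀ b ∈ R, u * b * u⁻¹ = r * b * r⁻¹

theorem Acts.mul {Q : Type*} [Group Q] {R : Subgroup Q} {u v r r' : Q} (h : Acts R u r)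
    (h' : Acts R v r') (hr' : r' ∈ R) : Acts R (u * v) (r * r') := fun b hb => by
  calc u * v * b * (u * v)⁻¹ = u * (v * b * v⁻¹) * u⁻¹ := by group
    _ = u * (r' * b * r'⁻¹) * u⁻¹ := by rw [h' b hb]
    _ = r * (r' * b * r'⁻¹) * r⁻¹ := h _ (mul_mem (mul_mem hr' hb) (inv_mem hr'))
    _ = _ := by group

theorem Acts.inv {Q : Type*} [Group Q] {R : Subgroup Q} {u r : Q} (h : Acts R u r) (hr : r ∈ R) :
    Acts R u⁻¹ r⁻¹ := fun b hb => by
  have h1 := h (r⁻¹ * b * r) (mul_mem (mul_mem (inv_mem hr) hb) hr)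
  rw [show r * (r⁻¹ * b * r) * r⁻¹ = b by group] at h1
  rw [inv_inv, inv_inv]
  nth_rewrite 1 [← h1]
  group

theorem Acts.self {Q : Type*} [Group Q] {R : Subgroup Q} (r : Q) : Acts R r r := fun _ _ => rfl

variable {G : Type*} [Group G] [Finite G] {N : ℕ} {t s : G} {K : Subgroup G}

/-- An element `y` of an intrinsic pair at `s` cannot move a component of `C(s̄)` in `C(t) / O(C(t))`
to a component commuting with it. -/
theorem no_lift (hK : IP N s K) (ht : t * t = 1) (hst : s ∈ Cen t)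
    {L : Subgroup (Qc (Cen t))}
    (hLs : L ≤ Subgroup.centralizer ({bar (Cen t) s} : Set (Qc (Cen t))))
    (hL : IsComponent (L.subgroupOf (Subgroup.centralizer ({bar (Cen t) s} : Set (Qc (Cen t))))))
    (hcard : N ≤ 2 * (Subgroup.center ↥L).index) {y : G} (hy : y ∈ K) (hyt : y ∈ Cen t)
    (hcomm : ∀ a ∈ L, ∀ b ∈ L, Commute a (bar (Cen t) y * b * (bar (Cen t) y)⁻¹))
    {a : Qc (Cen t)} (ha : a ∈ L) (ha2 : Two a)
    (hne : bar (Cen t) y * a * (bar (Cen t) y)⁻¹ ≠ a) : False := by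
  have ha1 : a ≠ 1 := fun h => hne (by rw [h, mul_one, mul_inv_cancel])
  have heven : Even (Nat.card ↥L) := by
    by_contra hodd
    exact ha1 ((oddEl_of_mem (Nat.not_even_iff_odd.1 hodd) ha).eq_one ha2)
  obtain ⟨P, hP⟩ := exists_isLift ht hK.inv hst hLs hL heven
  have hys : y ∈ Cen s := hK.le hy
  have hPt : ∀ {p : G}, p ∈ P → p ∈ Cen t := fun hp => (hP.le hp).1
  have hPs : ∀ {p : G}, p ∈ P → p ∈ Cen s := fun hp => (hP.le hp).2
  have hPL : ∀ {p : G}, p ∈ P → bar (Cen t) p ∈ L :=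
    fun hp => hP.map_eq.le (bar_mem_barS hp (hPt hp))
  rcases hK.dichotomy hP hcard with htr | honto
  · -- `P` centralizes the image of `K`
    obtain ⟨p, hp, -, rfl⟩ := mem_barS.1 (hP.map_eq.ge ha)
    have h1 : bar (Cen s) (y * p * y⁻¹ * p⁻¹) = 1 := by
      rw [bar_comm hys (hPs hp), ← htr p hp _ (hK.bar_mem hy), mul_inv_cancel_right, mul_inv_cancel]
    have h2 : OddEl (y * p * y⁻¹ * p⁻¹) :=
      oddEl_of_bar (mul_mem (mul_mem (mul_mem hys (hPs hp)) (inv_mem hys)) (inv_mem (hPs hp))) h1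
    have h3 := oddEl_bar (C := Cen t)
      (mul_mem (mul_mem (mul_mem hyt (hPt hp)) (inv_mem hyt)) (inv_mem (hPt hp))) h2
    rw [bar_comm hyt (hPt hp)] at h3
    exact hne (mul_inv_eq_one.1 (h3.eq_one ((ha2.conj _).mul ha2.inv
      (hcomm _ (hPL hp) _ (hPL hp)).symm.inv_right)))
  · -- `P` induces every inner automorphism
    set C := Cen s with hC
    set M := coreIn 2 (Cen t) ⊓ C with hM
    have hodd : Odd (Nat.card ↥M) := (odd_core (Cen t)).of_dvd_nat (Subgroup.card_dvd_of_le inf_le_left)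
    have hn : ∀ p ∈ P, ∀ m ∈ M, p * m * p⁻¹ ∈ M := fun p hp m hm =>
      ⟨(Subgroup.mem_normalizer_iff.1 (le_normalizer_coreIn (Cen t) (hPt hp)) m).1 hm.1,
        C.mul_mem (C.mul_mem (hPs hp) hm.2) (C.inv_mem (hPs hp))⟩
    obtain ⟨x, hx, hx2⟩ := hK.good.sqrt
    refine hK.good.not_central hx hx2 (hK.good.fix_of_central fun b hb => ?_)
    have hY := hK.bar_mem hy
    set Y := bar (Cen s) y
    obtain ⟨p, hp, hpx⟩ := honto x hx
    obtain ⟨q, hq, hqb⟩ := honto (Y⁻¹ * b * Y) (mul_mem (mul_mem (inv_mem hY) hb) hY)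
    set w := y * q * y⁻¹ with hw
    have hws : w ∈ Cen s := mul_mem (mul_mem hys (hPs hq)) (inv_mem hys)
    have hwt : w ∈ Cen t := mul_mem (mul_mem hyt (hPt hq)) (inv_mem hyt)
    have hwb : Acts (barS (Cen s) K) (bar (Cen s) w) b := by
      have h1 := ((Acts.self (R := barS (Cen s) K) Y).mul hqb
        (mul_mem (mul_mem (inv_mem hY) hb) hY)).mul ((Acts.self (R := barS (Cen s) K) Y).inv hY)
          (inv_mem hY)
      rw [hw, bar_conj hys (hPs hq)]
      have h2 : Y * (Y⁻¹ * b * Y) * Y⁻¹ = b := by group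
      rwa [h2] at h1
    have hm : p * w * p⁻¹ * w⁻¹ ∈ M := by
      refine ⟨(bar_eq_one_iff (mul_mem (mul_mem (mul_mem (hPt hp) hwt) (inv_mem (hPt hp)))
        (inv_mem hwt))).1 ?_,
        C.mul_mem (C.mul_mem (C.mul_mem (hPs hp) hws) (C.inv_mem (hPs hp))) (C.inv_mem hws)⟩
      rw [bar_comm (hPt hp) hwt, hw, bar_conj hyt (hPt hq), (hcomm _ (hPL hp) _ (hPL hq)).eq,
        mul_inv_cancel_right, mul_inv_cancel]
    have hact : Acts (barS (Cen s) K) (bar (Cen s) (p * w * p⁻¹ * w⁻¹)) (x * b * x⁻¹ * b⁻¹) := by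
      rw [bar_comm (hPs hp) hws]
      exact (((Acts.mul hpx hwb hb)).mul (Acts.inv hpx hx) (inv_mem hx)).mul (hwb.inv hb) (inv_mem hb)
    exact hK.eq_of_odd_inner (hP.le.trans inf_le_right) honto inf_le_right hodd hn hm
      (mul_mem (mul_mem (mul_mem hx hb) (inv_mem hx)) (inv_mem hb)) hact

end Cfsg.Agent.Lib.Intrinsic76
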