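import Cfsg.Agent.Lib.Intrinsic76.HighOrder
import Mathlib

/-!
# Order 4: the image of `zK` is inner on `J`

Owner: helper76 (intrinsic SL₂-components).
-/

set_option autoImplicit false
set_option linter.style.haveILetI false
open Cfsg

namespace Cfsg.Agent.Lib.Intrinsic76

open Components Balance

variable {G : Type*} [Group G] [Finite G] {N : ℕ} {J K : Subgroup G} {zJ zK y : G}

local notation "R" => barS (Cen zJ) J
local notation "z" => bar (Cen zJ) zJ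
local notation "Z" => bar (Cen zJ) zK
local notation "Y" => bar (Cen zJ) y

/-- The core of a centralizer is carried to the core of the conjugate centralizer. -/
theorem bar_conj_eq_one {t a : G} (g : G) (ha : a ∈ Cen t) (h : bar (Cen t) a = 1) :
    bar (Cen (g * t * g⁻¹)) (g * a * g⁻¹) = 1 := by
  have hmem : ∀ {b : G}, b ∈ Cen t → g * b * g⁻¹ ∈ Cen (g * t * g⁻¹) := fun {b} hb => mem_Cen.2 (by
    calc g * b * g⁻¹ * (g * t * g⁻¹) = g * (b * t) * g⁻¹ := by group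
      _ = g * (t * b) * g⁻¹ := by rw [mem_Cen.1 hb]
      _ = g * t * g⁻¹ * (g * b * g⁻¹) := by group)
  refine (bar_eq_one_iff (hmem ha)).2 ?_
  refine le_coreIn (N := (coreIn 2 (Cen t)).map (MulAut.conj g).toMonoidHom) ?_ ?_ ?_
    ⟨a, (bar_eq_one_iff ha).1 h, rfl⟩
  · rintro _ ⟨b, hb, rfl⟩
    exact hmem (coreIn_le _ hb)
  · intro c hc
    have hc' : g⁻¹ * c * g ∈ Cen t := mem_Cen.2 (by
      calc g⁻¹ * c * g * t = g⁻¹ * (c * (g * t * g⁻¹)) * g := by group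
        _ = g⁻¹ * (g * t * g⁻¹ * c) * g := by rw [mem_Cen.1 hc]
        _ = t * (g⁻¹ * c * g) := by group)
    refine Subgroup.mem_normalizer_iff.2 fun b => ?_
    simp only [Subgroup.mem_map_equiv, MulAut.conj_symm_apply]
    rw [Subgroup.mem_normalizer_iff.1 (le_normalizer_coreIn (Cen t) hc') (g⁻¹ * b * g),
      show g⁻¹ * c * g * (g⁻¹ * b * g) * (g⁻¹ * c * g)⁻¹ = g⁻¹ * (c * b * c⁻¹) * g by group]
  · rw [Subgroup.card_map_of_injective (MulAut.conj g).injective]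
    exact coreIn_coprime _

/-- `Z` is `u uʸ` up to the central involution. -/
def Inner (J : Subgroup G) (zJ zK y : G) (u : Qc (Cen zJ)) : Prop :=
  u ∈ barS (Cen zJ) J ∧ u * u = bar (Cen zJ) zJ ∧
    ∃ e, (e = 1 ∨ e = bar (Cen zJ) zJ) ∧
      bar (Cen zJ) zK = u * (bar (Cen zJ) y * u * (bar (Cen zJ) y)⁻¹) * e

namespace Ctx

variable (c : Ctx N J K zJ zK y)
include c

theorem zK_eq : zK = y * y := by
  refine (c.hK.uniq (mul_mem c.y_mem c.y_mem) ?_ c.y_sq).symm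
  rw [← c.y_four, show (4 : ℕ) = 2 * 2 from rfl, pow_mul, pow_two, pow_two]

theorem Z_eq : Z = Y * Y := by rw [c.zK_eq, bar_mul c.yJ c.yJ]

theorem beta_eq (a : Qc (Cen zJ)) : Y * (Y * a * Y⁻¹) * Y⁻¹ = Z * a * Z⁻¹ := by
  rw [c.Z_eq]; group

theorem sig_z : Y * z * Y⁻¹ = z := by rw [← bar_self_comm zJ Y, mul_inv_cancel_right]

theorem pair_conj {a b : Qc (Cen zJ)} (ha : a ∈ R) (hb : b ∈ R) :
    a * (Y * a * Y⁻¹) * (b * (Y * b * Y⁻¹)) * (a * (Y * a * Y⁻¹))⁻¹ =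
      a * b * a⁻¹ * (Y * (a * b * a⁻¹) * Y⁻¹) := by
  calc a * (Y * a * Y⁻¹) * (b * (Y * b * Y⁻¹)) * (a * (Y * a * Y⁻¹))⁻¹
      = a * ((Y * a * Y⁻¹) * b) * (Y * (b * a⁻¹) * Y⁻¹) * a⁻¹ := by group
    _ = a * (b * (Y * a * Y⁻¹)) * (Y * (b * a⁻¹) * Y⁻¹) * a⁻¹ := by rw [(c.comm hb ha).eq]
    _ = a * b * ((Y * (a * b * a⁻¹) * Y⁻¹) * a⁻¹) := by group
    _ = a * b * (a⁻¹ * (Y * (a * b * a⁻¹) * Y⁻¹)) := by
        rw [(c.comm (inv_mem ha) (mul_mem (mul_mem ha hb) (inv_mem ha))).eq]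
    _ = _ := by group

theorem pair_sq {a e : Qc (Cen zJ)} (ha : a ∈ R) (ha2 : a * a = z) (he : e = 1 ∨ e = z) :
    a * (Y * a * Y⁻¹) * e * (a * (Y * a * Y⁻¹) * e) = 1 := by
  have h1 : a * (Y * a * Y⁻¹) * (a * (Y * a * Y⁻¹)) = 1 := by
    rw [(c.comm ha ha).symm.mul_mul_mul_comm, ha2,
      show Y * a * Y⁻¹ * (Y * a * Y⁻¹) = Y * (a * a) * Y⁻¹ by group, ha2, c.sig_z, c.hJ.good.z_sq]
  rcases he with rfl | rfl
  · rw [mul_one, h1]
  · rw [(show Commute z (a * (Y * a * Y⁻¹)) from bar_self_comm zJ _).mul_mul_mul_comm, h1,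
      c.hJ.good.z_sq, one_mul]

theorem pair_comm {g : Qc (Cen zJ)} (hg : Z * g * Z⁻¹ = g * z) (e : Qc (Cen zJ)) (he : e = 1 ∨ e = z) :
    Commute Z (g * (Y * g * Y⁻¹) * e) := by
  have h1 : Commute Z (g * (Y * g * Y⁻¹)) := by
    refine mul_inv_eq_iff_eq_mul.1 ?_
    calc Z * (g * (Y * g * Y⁻¹)) * Z⁻¹ = Z * g * Z⁻¹ * ((Z * Y) * g * (Z * Y)⁻¹) := by group
      _ = g * z * ((Y * Z) * g * (Y * Z)⁻¹) := by rw [hg, c.Z_Y.eq]
      _ = g * z * (Y * (Z * g * Z⁻¹) * Y⁻¹) := by group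
      _ = g * (z * (Y * g * Y⁻¹)) * (Y * z * Y⁻¹) := by rw [hg]; group
      _ = g * (Y * g * Y⁻¹) * (z * z) := by
          rw [bar_self_comm zJ (Y * g * Y⁻¹), c.sig_z]
          simp only [mul_assoc]
      _ = _ := by rw [c.hJ.good.z_sq, mul_one]
  rcases he with rfl | rfl
  · rwa [mul_one]
  · exact h1.mul_right (bar_self_comm zJ Z).symm

theorem inner_alpha {u : Qc (Cen zJ)} (hu : Inner J zJ zK y u) {a : Qc (Cen zJ)} (ha : a ∈ R) :
    Z * a * Z⁻¹ = u * a * u⁻¹ := by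
  obtain ⟨huR, -, e, he, hZ⟩ := hu
  have hea : e * a = a * e := by
    rcases he with rfl | rfl
    · rw [one_mul, mul_one]
    · exact bar_self_comm zJ a
  rw [hZ]
  calc u * (Y * u * Y⁻¹) * e * a * (u * (Y * u * Y⁻¹) * e)⁻¹
      = u * (Y * u * Y⁻¹) * (e * a) * e⁻¹ * (Y * u * Y⁻¹)⁻¹ * u⁻¹ := by group
    _ = u * ((Y * u * Y⁻¹) * a) * (Y * u * Y⁻¹)⁻¹ * u⁻¹ := by rw [hea]; group
    _ = _ := by rw [(c.comm ha huR).symm.eq]; group

theorem anti_alpha {u v : Qc (Cen zJ)} (hu : Inner J zJ zK y u) (hv : v ∈ R)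
    (hvu : v * u * v⁻¹ = u⁻¹) : Z * v * Z⁻¹ = v * z := by
  rw [c.inner_alpha hu hv]
  have h1 : v * u = u⁻¹ * v := mul_inv_eq_iff_eq_mul.1 hvu
  calc u * v * u⁻¹ = u * u * (u⁻¹ * v) * u⁻¹ := by group
    _ = z * v := by rw [← h1, hu.2.1]; group
    _ = v * z := bar_self_comm zJ v

/-- A fixed square root of `z` gives the inner form of `Z`. -/
theorem inner_of {u g : Qc (Cen zJ)} (hu : u ∈ R) (hu2 : u * u = z) (hα : Commute Z u) (hg : g ∈ R)
    (hαg : Z * g * Z⁻¹ = g * z) : Inner J zJ zK y u := by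
  refine ⟨hu, hu2, ?_⟩
  have hv0eq : u * (Y * u⁻¹ * Y⁻¹) = u * (Y * u * Y⁻¹) * z := by
    rw [c.hJ.good.inv_of_sq hu2, show Y * (u * z) * Y⁻¹ = Y * u * Y⁻¹ * (Y * z * Y⁻¹) by group,
      c.sig_z]
    simp only [mul_assoc]
  obtain ⟨v, hv, hvK, hvb⟩ := exists_lift_fixed c.zKJ c.hK.inv hα.symm.eq
  have hvK' : v ∈ Cen zK := mem_Cen.2 hvK
  by_cases hn : v ∈ Subgroup.normalizer (K : Set G)
  · exact ⟨z, Or.inr rfl, ((c.uLemma hu hu2 hα hv hvK' hvb).1 hn).trans hv0eq⟩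
  obtain ⟨w, hw, hwK, hwb⟩ := c.wLift (c.pair_comm hαg 1 (Or.inl rfl))
  obtain ⟨hwn, hy', -⟩ := c.wLemma hg (by rw [c.beta_eq, hαg]) (Or.inl rfl) hw hwK hwb
  set Yk := bar (Cen zK) y with hYk
  set zk := bar (Cen zK) zJ with hzk
  set Zk := bar (Cen zK) zK with hZk
  set S := barS (Cen zK) K with hS
  have hYkS : Yk ∈ S := c.hK.bar_mem c.y_mem
  have hYk2 : Yk * Yk = Zk := by rw [hYk, ← bar_mul c.yK c.yK, ← c.zK_eq]
  have hKw := c.hK.conj_fix hwK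
  have hwne : K.map (MulAut.conj w).toMonoidHom ≠ K := fun h =>
    hwn (Subgroup.mem_normalizer_iff_map_conj_eq.2 h)
  set S' := barS (Cen zK) (K.map (MulAut.conj w).toMonoidHom) with hS'
  set Y' := bar (Cen zK) (w * y * w⁻¹) with hY'
  have hY'S : Y' ∈ S' := by
    rw [hY', bar_conj hwK c.yK]
    exact c.hK.conj_bar_mem hwK hYkS
  have hzkeq : zk = Y' * Yk⁻¹ := by rw [hy', mul_inv_cancel_right]
  have hzY : Commute zk Yk := commute_bar c.zJK c.yK c.y_comm.symm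
  have hzk2 : zk * zk = 1 := bar_mul_self c.zJK c.hJ.inv
  have hY'2 : Y' * Y' = Zk := by rw [hy', hzY.symm.mul_mul_mul_comm, hzk2, one_mul, hYk2]
  -- the action of `zk` on the two components
  have hact : ∀ b ∈ S, zk * b * zk⁻¹ = Yk⁻¹ * b * Yk := fun b hb => by
    have hc : Commute Y' (Yk⁻¹ * b * Yk) :=
      (c.hK.commute hKw (Ne.symm hwne) (mul_mem (mul_mem (inv_mem hYkS) hb) hYkS) hY'S).symm
    calc zk * b * zk⁻¹ = Y' * (Yk⁻¹ * b * Yk) * Y'⁻¹ := by rw [hzkeq]; group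
      _ = _ := by rw [hc.eq, mul_inv_cancel_right]
  have hact' : ∀ b ∈ S', zk * b * zk⁻¹ = Y' * b * Y'⁻¹ := fun b hb => by
    have hc : Commute Yk⁻¹ b := c.hK.commute hKw (Ne.symm hwne) (inv_mem hYkS) hb
    calc zk * b * zk⁻¹ = Y' * (Yk⁻¹ * b * Yk) * Y'⁻¹ := by rw [hzkeq]; group
      _ = _ := by rw [hc.eq]; group
  set V := bar (Cen zK) v with hV
  have hVz : Commute V zk := commute_bar hvK' c.zJK (mem_Cen.1 hv)
  have hKv := c.hK.conj_fix hvK'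
  have hvne : K.map (MulAut.conj v).toMonoidHom ≠ K := fun h =>
    hn (Subgroup.mem_normalizer_iff_map_conj_eq.2 h)
  have hconjS : ∀ b ∈ S, V * b * V⁻¹ ∈ barS (Cen zK) (K.map (MulAut.conj v).toMonoidHom) :=
    fun b hb => c.hK.conj_bar_mem hvK' hb
  have heq : K.map (MulAut.conj v).toMonoidHom = K.map (MulAut.conj w).toMonoidHom := by
    by_contra hne
    refine c.hK.good.not_central hYkS hYk2 fun b hb => ?_
    have h1 := hconjS b hb
    have h2 : Commute zk (V * b * V⁻¹) := by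
      rw [hzkeq]
      exact ((hKv.commute hKw hne h1 hY'S).symm).mul_left
        (c.hK.commute hKv (Ne.symm hvne) (inv_mem hYkS) h1)
    have h3 : zk * b * zk⁻¹ = b := by
      have h4 : V * (zk * b * zk⁻¹) * V⁻¹ = V * b * V⁻¹ := by
        calc V * (zk * b * zk⁻¹) * V⁻¹ = (V * zk) * b * (V * zk)⁻¹ := by group
          _ = (zk * V) * b * (zk * V)⁻¹ := by rw [hVz.eq]
          _ = zk * (V * b * V⁻¹) * zk⁻¹ := by group
          _ = V * b * V⁻¹ := by rw [h2.eq, mul_inv_cancel_right]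
      exact mul_left_cancel (mul_right_cancel h4)
    rw [hact b hb] at h3
    calc Yk * b = Yk * (Yk⁻¹ * b * Yk) := by rw [h3]
      _ = b * Yk := by group
  set Y'' := bar (Cen zK) (v * y * v⁻¹) with hY''
  have hY''S : Y'' ∈ S' := by
    rw [hY'', bar_conj hvK' c.yK, hS', ← heq]
    exact c.hK.conj_bar_mem hvK' hYkS
  have hcases : Y'' = Y'⁻¹ ∨ Y'' = Y' := by
    have hprod : Y'' * Y' = 1 ∨ Y'' * Y' = Zk := by
      refine hKw.good.cent _ (mul_mem hY''S hY'S) fun b hb => ?_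
      obtain ⟨b₀, hb₀, hb₀C, rfl⟩ := mem_barS.1 (show b ∈ barS (Cen zK) (K.map (MulAut.conj v).toMonoidHom) by rw [heq]; exact hb)
      obtain ⟨b₁, hb₁, rfl⟩ := hb₀
      have hb₁' : v * b₁ * v⁻¹ ∈ Cen zK := mul_mem (mul_mem hvK' (c.hK.le hb₁)) (inv_mem hvK')
      change Y'' * Y' * bar (Cen zK) (v * b₁ * v⁻¹) = bar (Cen zK) (v * b₁ * v⁻¹) * (Y'' * Y')
      have hb' : bar (Cen zK) (v * b₁ * v⁻¹) = V * bar (Cen zK) b₁ * V⁻¹ := bar_conj hvK' (c.hK.le hb₁)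
      set b := bar (Cen zK) b₁
      have hbS : b ∈ S := c.hK.bar_mem hb₁
      have h1 : zk * (V * b * V⁻¹) * zk⁻¹ = Y''⁻¹ * (V * b * V⁻¹) * Y'' := by
        calc zk * (V * b * V⁻¹) * zk⁻¹ = (zk * V) * b * (zk * V)⁻¹ := by group
          _ = (V * zk) * b * (V * zk)⁻¹ := by rw [hVz.eq]
          _ = V * (zk * b * zk⁻¹) * V⁻¹ := by group
          _ = V * (Yk⁻¹ * b * Yk) * V⁻¹ := by rw [hact b hbS]
          _ = _ := by rw [hY'', bar_conj hvK' c.yK, ← hV, ← hYk]; group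
      have h2 : V * b * V⁻¹ ∈ S' := hb' ▸ hb
      rw [hact' _ h2] at h1
      rw [hb']
      calc Y'' * Y' * (V * b * V⁻¹) = Y'' * (Y' * (V * b * V⁻¹) * Y'⁻¹) * Y' := by group
        _ = (V * b * V⁻¹) * (Y'' * Y') := by rw [h1]; group
    rcases hprod with h | h
    · exact Or.inl (eq_inv_of_mul_eq_one_left h)
    · exact Or.inr (mul_right_cancel (h.trans hY'2.symm))
  have hm : v * y * v⁻¹ * y⁻¹ ∈ Cen zJ := mul_mem (mul_mem (mul_mem hv c.yJ) (inv_mem hv)) (inv_mem c.yJ)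
  have hmK : v * y * v⁻¹ * y⁻¹ ∈ Cen zK :=
    mul_mem (mul_mem (mul_mem hvK' c.yK) (inv_mem hvK')) (inv_mem c.yK)
  have hmb : bar (Cen zJ) (v * y * v⁻¹ * y⁻¹) = u * (Y * u * Y⁻¹) * z := by
    rw [bar_comm hv c.yJ, hvb, ← hv0eq]; group
  have hmbK : bar (Cen zK) (v * y * v⁻¹ * y⁻¹) = Y'' * Yk⁻¹ := by
    rw [bar_mul (mul_mem (mul_mem hvK' c.yK) (inv_mem hvK')) (inv_mem c.yK), bar_inv c.yK]
  have hv0 : u * (Y * u * Y⁻¹) * z * (u * (Y * u * Y⁻¹) * z) = 1 := c.pair_sq hu hu2 (Or.inr rfl)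
  rcases hcases with h | h
  · refine ⟨1, Or.inl rfl, ?_⟩
    rw [mul_one]
    have h1 : bar (Cen zK) (v * y * v⁻¹ * y⁻¹) = bar (Cen zK) (zJ * zK) := by
      rw [hmbK, h, ← mul_inv_rev, hy', bar_mul c.zJK (self_mem_Cen zK),
        show Yk * (zk * Yk) = zk * (Yk * Yk) by rw [← mul_assoc, ← hzY.eq, mul_assoc], hYk2,
        mul_inv_rev, inv_eq_of_mul_eq_one_right hzk2, c.hK.good.z_inv]
      exact bar_self_comm zK zk
    have hzz : zJ * zK ∈ Cen zJ := mul_mem (self_mem_Cen zJ) c.zKJ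
    have h2 := oddEl_bar (C := Cen zJ) (mul_mem hm (inv_mem hzz))
      (oddEl_of_bar_eq hmK (mul_mem c.zJK (self_mem_Cen zK)) h1)
    rw [bar_mul hm (inv_mem hzz), bar_inv hzz, hmb, bar_mul (self_mem_Cen zJ) c.zKJ] at h2
    have hzZ : z * Z * (z * Z) = 1 := by
      rw [(show Commute Z z from (bar_self_comm zJ Z).symm).mul_mul_mul_comm, c.hJ.good.z_sq, c.Z_sq, one_mul]
    rw [inv_eq_of_mul_eq_one_right hzZ] at h2
    have hcomm : Commute (u * (Y * u * Y⁻¹) * z) (z * Z) :=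
      Commute.mul_right (bar_self_comm zJ _).symm
        (((hα.mul_right (c.Z_sig hα)).mul_right (bar_self_comm zJ Z).symm).symm)
    have h3 := eq_of_oddEl_mul hv0 hzZ hcomm h2
    rw [← bar_self_comm zJ (u * (Y * u * Y⁻¹))] at h3
    exact (mul_left_cancel h3).symm
  · exfalso
    have h1 : bar (Cen zK) (v * y * v⁻¹ * y⁻¹) = bar (Cen zK) zJ := by rw [hmbK, h]; exact hzkeq.symm
    have h2 := oddEl_bar (C := Cen zJ) (mul_mem hm (inv_mem (self_mem_Cen zJ)))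
      (oddEl_of_bar_eq hmK c.zJK h1)
    rw [bar_mul hm (inv_mem (self_mem_Cen zJ)), bar_inv (self_mem_Cen zJ), hmb, c.hJ.good.z_inv] at h2
    have h3 := eq_of_oddEl_mul hv0 c.hJ.good.z_sq (bar_self_comm zJ _).symm h2
    rw [mul_eq_right] at h3
    rcases c.inter (inv_mem hu) hu (eq_inv_of_mul_eq_one_right h3) with h4 | h4
    · exact (c.hJ.good.sq_ne_one hu2).1 (inv_eq_one.1 h4)
    · exact (c.hJ.good.sq_ne_one hu2).2 (by rw [← inv_inv u, h4, c.hJ.good.z_inv])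

/-- `Z` inverts modulo `z` some square root of `z`. -/
theorem exists_x : ∃ x ∈ R, x * x = z ∧ Z * x * Z⁻¹ = x * z := by
  obtain ⟨g, hg, hg2, hgα⟩ := exists_twist c.hJ.good c.Z_sq (fun x hx => c.alpha_mem hx) c.zK_act
  have hg1 : g ≠ 1 := fun h => c.hJ.good.z_ne (by rw [h, mul_one, mul_inv_cancel, one_mul] at hgα; exact hgα.symm)
  have hgz : g ≠ z := fun h => c.hJ.good.z_ne (by
    rw [h, ← bar_self_comm zJ Z, mul_inv_cancel_right] at hgα
    exact mul_eq_left.1 hgα.symm)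
  obtain ⟨n, hn⟩ := c.hJ.good.exists_pow_sqrt hg hg2 hg1 hgz
  rcases n with _ | n
  · rw [pow_zero, pow_one] at hn
    exact ⟨g, hg, hn, hgα⟩
  have hu : Commute Z (g ^ 2 ^ (n + 1)) := by
    refine mul_inv_eq_iff_eq_mul.1 ?_
    rw [← conj_pow, hgα, (show Commute g z from (bar_self_comm zJ g).symm).mul_pow, pow_succ', pow_mul, pow_mul,
      pow_two z, c.hJ.good.z_sq, one_pow, mul_one]
  have hI := c.inner_of (pow_mem hg _) hn hu hg hgα
  obtain ⟨v, hv, hv2, hvu⟩ := c.hJ.good.anti _ (pow_mem hg _) hn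
  exact ⟨v, hv, hv2, c.anti_alpha hI hv hvu⟩

end Ctx

end Cfsg.Agent.Lib.Intrinsic76
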