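import Cfsg.Agent.Lib.Intrinsic76.Good
import Cfsg.Agent.Lib.Components.PComponent
import Cfsg.Agent.Lib.Balance.PLayer
import Cfsg.Prelude.Def_ClassificationStages
import Mathlib

/-!
# Intrinsic pairs `(t, K)`; diagonals of swapped components

Owner: helper76 (intrinsic SL₂-components).
-/

set_option autoImplicit false
set_option linter.style.haveILetI false
open Cfsg
open scoped Pointwise

namespace Cfsg.Agent.Lib.Intrinsic76

open Components Balance

variable {G : Type*} [Group G]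

/-- The image of `K` in `C / O(C)`. -/
def barS (C K : Subgroup G) : Subgroup (Qc C) :=
  (K.subgroupOf C).map (QuotientGroup.mk' (pPrimeCore 2 ↥C))

theorem mem_barS {C K : Subgroup G} {q : Qc C} :
    q ∈ barS C K ↔ ∃ a ∈ K, a ∈ C ∧ bar C a = q := by
  constructor
  · rintro ⟨⟨a, ha⟩, haK, rfl⟩
    exact ⟨a, haK, ha, bar_of_mem ha⟩
  · rintro ⟨a, haK, ha, rfl⟩
    exact ⟨⟨a, ha⟩, haK, (bar_of_mem ha).symm⟩

theorem bar_mem_barS {C K : Subgroup G} {a : G} (haK : a ∈ K) (ha : a ∈ C) :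
    bar C a ∈ barS C K := mem_barS.2 ⟨a, haK, ha, rfl⟩

/-- `t` is an involution of `K`, and `K` is a 2-component of `C(t)` with `K / O(K)` of order `N`,
quasisimple with unique involution the image of `t`, of the type described by `GoodIn`. -/
structure IP (N : ℕ) (t : G) (K : Subgroup G) : Prop where
  inv : t * t = 1
  ne : t ≠ 1
  mem : t ∈ K
  comp : IsPComponentOf 2 K (Cen t)
  good : GoodIn (barS (Cen t) K) (bar (Cen t) t)
  card : Nat.card ↥(barS (Cen t) K) = N

variable [Finite G] {N : ℕ} {t : G} {K K' : Subgroup G}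

/-- The image of `t` is central in `C(t) / O(C(t))`. -/
theorem bar_self_comm (t : G) (q : Qc (Cen t)) : bar (Cen t) t * q = q * bar (Cen t) t := by
  obtain ⟨a, ha, rfl⟩ := bar_surjective q
  exact (commute_bar (self_mem_Cen t) ha (mem_Cen.1 ha).symm).eq

theorem exists_two_pow {H : Type*} [Group H] [Finite H] (a : H) :
    ∃ m : ℕ, Two (a ^ m) ∧ ∀ {H' : Type*} [Group H'] (q : H'), q ^ orderOf a = 1 → Two q → q ^ m = q := by
  obtain ⟨i, k, hk, he⟩ := Nat.exists_eq_two_pow_mul_odd (orderOf_pos a).ne'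
  obtain ⟨m, hm1, hm2⟩ := Nat.chineseRemainder ((Nat.coprime_two_left.2 hk).pow_left i) 1 0
  refine ⟨m, ⟨i, ?_⟩, fun q hq hq2 => ?_⟩
  · obtain ⟨c, hc⟩ := Nat.modEq_zero_iff_dvd.1 hm2
    rw [← pow_mul, hc, show k * c * 2 ^ i = 2 ^ i * k * c by ring, pow_mul, ← he, pow_orderOf_eq_one,
      one_pow]
  · obtain ⟨j, hj⟩ := hq2
    have hd : orderOf q ∣ 2 ^ i := by
      have h1 : orderOf q ∣ 2 ^ i * k := he ▸ orderOf_dvd_of_pow_eq_one hq
      exact Nat.Coprime.dvd_of_dvd_mul_right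
        (((Nat.coprime_two_left.2 hk).pow_left j).coprime_dvd_left (orderOf_dvd_of_pow_eq_one hj)) h1
    rw [← pow_mod_orderOf, Nat.ModEq.of_dvd hd hm1]
    rw [pow_mod_orderOf, pow_one]

namespace IP

theorem le (h : IP N t K) : K ≤ Cen t := h.comp.1

theorem isComponent (h : IP N t K) : IsComponent (barS (Cen t) K) := h.comp.2.2.1

theorem t_mem (h : IP N t K) : bar (Cen t) t ∈ barS (Cen t) K :=
  bar_mem_barS h.mem (self_mem_Cen t)

theorem bar_mem (h : IP N t K) {a : G} (ha : a ∈ K) : bar (Cen t) a ∈ barS (Cen t) K :=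
  bar_mem_barS ha (h.le ha)

theorem two_mul_index (h : IP N t K) :
    2 * (Subgroup.center ↥(barS (Cen t) K)).index = N := by
  have h2 : Nat.card ↥(Subgroup.center ↥(barS (Cen t) K)) = 2 := by
    rw [Nat.card_eq_two_iff]
    refine ⟨⟨⟨_, h.t_mem⟩, h.good.mem_center_iff.2 (Or.inr rfl)⟩, 1,
      fun he => h.good.z_ne (congrArg (fun w : ↥(Subgroup.center ↥(barS (Cen t) K)) =>
        ((w : ↥(barS (Cen t) K)) : Qc (Cen t))) he), Set.eq_univ_of_forall fun w => ?_⟩
    rcases h.good.mem_center_iff.1 w.2 with h1 | h1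
    · exact Or.inr (Subtype.ext (Subtype.ext h1))
    · exact Or.inl (Subtype.ext (Subtype.ext h1))
  rw [← h.card, ← Subgroup.card_mul_index (Subgroup.center ↥(barS (Cen t) K)), h2]

theorem eq_of_barS (h : IP N t K) (h' : IP N t K') (he : barS (Cen t) K = barS (Cen t) K') :
    K = K' := by
  haveI : Fact (Nat.Prime 2) := ⟨Nat.prime_two⟩
  have h1 := PComponent.eq_of_map_eq h.comp.2 h'.comp.2 he
  rw [← Subgroup.map_subgroupOf_eq_of_le h.le, h1, Subgroup.map_subgroupOf_eq_of_le h'.le]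

theorem commute (h : IP N t K) (h' : IP N t K') (hne : K ≠ K') {p q : Qc (Cen t)}
    (hp : p ∈ barS (Cen t) K) (hq : q ∈ barS (Cen t) K') : Commute p q :=
  (Subgroup.mem_centralizer_iff.1 (Component.le_centralizer_of_ne h.isComponent h'.isComponent
    (fun he => hne (h.eq_of_barS h' he)) hp) q hq).symm

theorem inter (h : IP N t K) (h' : IP N t K') (hne : K ≠ K') {p : Qc (Cen t)}
    (hp : p ∈ barS (Cen t) K) (hp' : p ∈ barS (Cen t) K') : p = 1 ∨ p = bar (Cen t) t :=
  h.good.cent p hp fun _ hb => (h'.commute h (fun he => hne he.symm) hp' hb).eq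

/-- The only involution of `K` is `t`. -/
theorem uniq (h : IP N t K) {a : G} (ha : a ∈ K) (h2 : a * a = 1) (h1 : a ≠ 1) : a = t := by
  have hb := bar_mul_self (h.le ha) h2
  rcases h.good.uniq _ (h.bar_mem ha) hb with h3 | h3
  · exact absurd h3 (bar_ne_one_of_involution (h.le ha) h2 h1)
  · refine eq_of_oddEl_mul h2 h.inv (mem_Cen.1 (h.le ha)) ?_
    refine oddEl_of_bar (mul_mem (h.le ha) (self_mem_Cen t)) ?_
    rw [bar_mul (h.le ha) (self_mem_Cen t), h3, bar_mul_self (self_mem_Cen t) h.inv]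

theorem conj (h : IP N t K) (g : G) : IP N (g * t * g⁻¹) (K.map (MulAut.conj g).toMonoidHom) := by
  let e : ↥(Cen t) ≃* ↥(Cen (g * t * g⁻¹)) :=
    { toFun := fun a => ⟨g * a * g⁻¹, mem_Cen.2 (by
        calc g * a * g⁻¹ * (g * t * g⁻¹) = g * ((a : G) * t) * g⁻¹ := by group
          _ = g * (t * (a : G)) * g⁻¹ := by rw [mem_Cen.1 a.2]
          _ = g * t * g⁻¹ * (g * a * g⁻¹) := by group)⟩
      invFun := fun a => ⟨g⁻¹ * a * g, mem_Cen.2 (by
        calc g⁻¹ * a * g * t = g⁻¹ * ((a : G) * (g * t * g⁻¹)) * g := by group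
          _ = g⁻¹ * (g * t * g⁻¹ * (a : G)) * g := by rw [mem_Cen.1 a.2]
          _ = t * (g⁻¹ * a * g) := by group)⟩
      left_inv := fun a => Subtype.ext (by
        show g⁻¹ * (g * (a : G) * g⁻¹) * g = a
        group)
      right_inv := fun a => Subtype.ext (by
        show g * (g⁻¹ * (a : G) * g) * g⁻¹ = a
        group)
      map_mul' := fun a b => Subtype.ext (by
        show g * ((a : G) * b) * g⁻¹ = g * a * g⁻¹ * (g * b * g⁻¹)
        group) }
  let eq : Qc (Cen t) ≃* Qc (Cen (g * t * g⁻¹)) :=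
    QuotientGroup.congr _ _ e (Cores.map_pPrimeCore_equiv (p := 2) e)
  have hbar : ∀ a, (ha : a ∈ Cen t) → eq (bar (Cen t) a) = bar (Cen (g * t * g⁻¹)) (g * a * g⁻¹) :=
    fun a ha => by
      rw [bar_of_mem ha, bar_of_mem (show g * a * g⁻¹ ∈ Cen (g * t * g⁻¹) from (e ⟨a, ha⟩).2)]
      rfl
  have hsub : (K.map (MulAut.conj g).toMonoidHom).subgroupOf (Cen (g * t * g⁻¹)) =
      (K.subgroupOf (Cen t)).map e.toMonoidHom := by
    ext a
    constructor
    · rintro ⟨k, hk, hka⟩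
      exact ⟨⟨k, h.le hk⟩, hk, Subtype.ext hka⟩
    · rintro ⟨k, hk, rfl⟩
      exact ⟨k, hk, rfl⟩
  have hS : barS (Cen (g * t * g⁻¹)) (K.map (MulAut.conj g).toMonoidHom) =
      (barS (Cen t) K).map eq.toMonoidHom := by
    rw [barS, barS, hsub, Subgroup.map_map, Subgroup.map_map]
    rfl
  refine ⟨?_, fun h1 => h.ne (conj_eq_one_iff.1 h1), ⟨t, h.mem, rfl⟩, ⟨?_, ?_⟩, ?_, ?_⟩
  · rw [show g * t * g⁻¹ * (g * t * g⁻¹) = g * (t * t) * g⁻¹ by group, h.inv]
    group
  · rintro _ ⟨k, hk, rfl⟩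
    exact (e ⟨k, h.le hk⟩).2
  · rw [hsub]
    exact PComponent.map_equiv e h.comp.2
  · rw [hS, ← hbar t (self_mem_Cen t)]
    exact h.good.map eq
  · rw [hS]
    exact (Nat.card_congr ((barS (Cen t) K).equivMapOfInjective _ eq.injective).toEquiv).symm.trans h.card

theorem conj_fix (h : IP N t K) {g : G} (hg : g ∈ Cen t) :
    IP N t (K.map (MulAut.conj g).toMonoidHom) := by
  have := h.conj g
  rwa [mem_Cen.1 hg, mul_inv_cancel_right] at this

/-- An element whose image normalizes the image of `K` normalizes `K`. -/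
theorem mem_normalizer (h : IP N t K) {g : G} (hg : g ∈ Cen t)
    (hn : ∀ q ∈ barS (Cen t) K, bar (Cen t) g * q * (bar (Cen t) g)⁻¹ ∈ barS (Cen t) K) :
    g ∈ Subgroup.normalizer (K : Set G) := by
  have h' := h.conj_fix hg
  rw [Subgroup.mem_normalizer_iff_map_conj_eq]
  refine h'.eq_of_barS h (Subgroup.eq_of_le_of_card_ge ?_ (by rw [h.card, h'.card]))
  intro q hq
  obtain ⟨_, ⟨k, hk, rfl⟩, -, rfl⟩ := mem_barS.1 hq
  show bar (Cen t) (g * k * g⁻¹) ∈ _
  rw [bar_conj hg (h.le hk)]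
  exact hn _ (h.bar_mem hk)

theorem bar_conj_mem (h : IP N t K) {g : G} (hg : g ∈ Cen t)
    (hn : g ∈ Subgroup.normalizer (K : Set G)) {q : Qc (Cen t)} (hq : q ∈ barS (Cen t) K) :
    bar (Cen t) g * q * (bar (Cen t) g)⁻¹ ∈ barS (Cen t) K := by
  obtain ⟨k, hk, -, rfl⟩ := mem_barS.1 hq
  rw [← bar_conj hg (h.le hk)]
  exact h.bar_mem ((Subgroup.mem_normalizer_iff.1 hn k).1 hk)

theorem conj_bar_mem (h : IP N t K) {g : G} (hg : g ∈ Cen t) {q : Qc (Cen t)}
    (hq : q ∈ barS (Cen t) K) :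
    bar (Cen t) g * q * (bar (Cen t) g)⁻¹ ∈ barS (Cen t) (K.map (MulAut.conj g).toMonoidHom) := by
  obtain ⟨k, hk, -, rfl⟩ := mem_barS.1 hq
  rw [← bar_conj hg (h.le hk)]
  exact (h.conj_fix hg).bar_mem ⟨k, hk, rfl⟩

/-- A 2-element of the image of `K` is the image of a 2-element of `K`. -/
theorem exists_two (h : IP N t K) {q : Qc (Cen t)} (hq : q ∈ barS (Cen t) K) (h2 : Two q) :
    ∃ a ∈ K, Two a ∧ bar (Cen t) a = q := by
  obtain ⟨a, ha, haC, rfl⟩ := mem_barS.1 hq
  obtain ⟨m, hm, hm'⟩ := exists_two_pow a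
  refine ⟨a ^ m, pow_mem ha m, hm, ?_⟩
  rw [bar_pow haC]
  exact hm' _ (by rw [← bar_pow haC, pow_orderOf_eq_one, bar_one]) h2

end IP

/-- The diagonal of two components swapped by an involution `s` is a component of `C(s)`. -/
theorem exists_diag {Q : Type*} [Group Q] [Finite Q] {R : Subgroup Q} (hR : IsComponent R) {z : Q}
    (hz : GoodIn R z) (hzc : ∀ q : Q, z * q = q * z) {s : Q} (hs : s * s = 1)
    (hne : R.map (MulAut.conj s).toMonoidHom ≠ R) :
    ∃ L : Subgroup Q, L ≤ Subgroup.centralizer ({s} : Set Q) ∧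
      IsComponent (L.subgroupOf (Subgroup.centralizer ({s} : Set Q))) ∧
      (∀ q, q ∈ L ↔ ∃ a ∈ R, q = a * (s * a * s)) ∧
      (Subgroup.center ↥L).index = (Subgroup.center ↥R).index := by
  have hsi : s⁻¹ = s := inv_eq_of_mul_eq_one_right hs
  set R' := R.map (MulAut.conj s).toMonoidHom with hR'
  have hmem' : ∀ a ∈ R, s * a * s ∈ R' := fun a ha =>
    ⟨a, ha, by show s * a * s⁻¹ = _; rw [hsi]⟩
  have hback : ∀ a ∈ R', s * a * s ∈ R := by
    rintro _ ⟨a, ha, rfl⟩
    show s * (s * a * s⁻¹) * s ∈ R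
    rw [hsi, show s * (s * a * s) * s = (s * s) * a * (s * s) by group, hs, one_mul, mul_one]
    exact ha
  have hcomm : ∀ a ∈ R, ∀ b ∈ R', Commute a b := fun a ha b hb =>
    (Subgroup.mem_centralizer_iff.1
      (Component.le_centralizer_of_ne hR (Component.conj hR s) (Ne.symm hne) ha) b hb).symm
  have hfix : ∀ a ∈ R, s * (a * (s * a * s)) * s = a * (s * a * s) := fun a ha => by
    calc s * (a * (s * a * s)) * s = (s * a * s) * a * (s * s) := by group
      _ = a * (s * a * s) := by rw [hs, mul_one, (hcomm a ha _ (hmem' a ha)).eq]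
  let f : ↥R →* Q := MonoidHom.mk' (fun a => (a : Q) * (s * a * s)) fun a b => by
    show (a : Q) * b * (s * ((a : Q) * b) * s) = (a : Q) * (s * a * s) * ((b : Q) * (s * b * s))
    calc (a : Q) * b * (s * ((a : Q) * b) * s)
        = (a : Q) * b * (s * a * 1 * b * s) := by group
      _ = (a : Q) * ((b : Q) * (s * a * s)) * (s * b * s) := by rw [← hs]; group
      _ = (a : Q) * ((s * a * s) * b) * (s * b * s) := by rw [(hcomm b b.2 _ (hmem' a a.2)).eq]
      _ = _ := by group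
  have hker : f.ker ≤ Subgroup.center ↥R := fun a ha => by
    refine hz.mem_center_iff.2 (hz.cent a a.2 fun b hb => ?_)
    have h1 : (a : Q) = (s * a * s)⁻¹ := eq_inv_of_mul_eq_one_left (MonoidHom.mem_ker.1 ha)
    have h2 : (a : Q) ∈ R' := by rw [h1]; exact inv_mem (hmem' a a.2)
    exact (hcomm b hb _ h2).eq.symm
  haveI hRp : Group.IsPerfect ↥R := hR.2.1
  set L := f.range with hL
  have hLmem : ∀ q, q ∈ L ↔ ∃ a ∈ R, q = a * (s * a * s) := fun q =>
    ⟨fun ⟨a, ha⟩ => ⟨a, a.2, ha.symm⟩, fun ⟨a, ha, hq⟩ => ⟨⟨a, ha⟩, hq.symm⟩⟩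
  have hLC : L ≤ Subgroup.centralizer ({s} : Set Q) := fun q hq => by
    obtain ⟨a, ha, rfl⟩ := (hLmem q).1 hq
    rw [Subgroup.mem_centralizer_singleton_iff]
    conv_rhs => rw [← hfix a ha]
    rw [show s * (s * (a * (s * a * s)) * s) = (s * s) * (a * (s * a * s)) * s by group, hs, one_mul]
  have hidx : (Subgroup.center ↥L).index = (Subgroup.center ↥R).index := by
    rw [← index_center_of_surjective (f := f.rangeRestrict) f.rangeRestrict_surjective
      (by rw [MonoidHom.ker_rangeRestrict]; exact hker),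
      Subgroup.index_comap_of_surjective _ f.rangeRestrict_surjective]
  have hLq : IsQuasisimple ↥L := by
    haveI : Nontrivial ↥L := by
      rw [Subgroup.nontrivial_iff_ne_bot]
      intro h
      refine Quasisimple.center_ne_top hR.2 (top_le_iff.1 (le_trans ?_ hker))
      intro a _
      rw [MonoidHom.mem_ker, ← Subgroup.mem_bot (G := Q), ← h]
      exact ⟨a, rfl⟩
    exact Quasisimple.of_surjective hR.2 f.rangeRestrict_surjective
  refine ⟨L, hLC, ⟨?_, Quasisimple.of_mulEquiv hLq (Subgroup.subgroupOfEquivOfLe hLC).symm⟩,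
    hLmem, hidx⟩
  -- subnormality
  set U := R ⊔ R' with hU
  have hUsn : U.IsSubnormal := by
    have hUE : U ≤ layer Q := sup_le (Layer.component_le_layer hR)
      (Layer.component_le_layer (Component.conj hR s))
    refine Subgroup.IsSubnormal.step U (layer Q) hUE (Subgroup.Normal.isSubnormal inferInstance) ?_
    refine (Subgroup.normal_subgroupOf_iff_le_normalizer hUE).2 fun g hg => ?_
    rw [Subgroup.mem_normalizer_iff_map_conj_eq, hU, Subgroup.map_sup,
      Subgroup.mem_normalizer_iff_map_conj_eq.1 (Layer.layer_le_normalizer hR hg),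
      Subgroup.mem_normalizer_iff_map_conj_eq.1 (Layer.layer_le_normalizer (Component.conj hR s) hg)]
  set C := Subgroup.centralizer ({s} : Set Q) with hC
  refine Subgroup.IsSubnormal.step _ (U.subgroupOf C) ?_ hUsn.subgroupOf ?_
  · intro q hq
    obtain ⟨a, ha, hqa⟩ := (hLmem _).1 hq
    show (q : Q) ∈ U
    rw [show (q : Q) = a * (s * a * s) from hqa]
    exact Subgroup.mul_mem_sup ha (hmem' a ha)
  refine ⟨fun q hq x => ?_⟩
  show ((x : ↥C) : Q) * ((q : ↥C) : Q) * ((x : ↥C) : Q)⁻¹ ∈ L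
  obtain ⟨a₀, ha₀, hqa⟩ := (hLmem _).1 hq
  have hxU : ((x : ↥C) : Q) ∈ (R : Set Q) * (R' : Set Q) := by
    rw [← Subgroup.coe_mul_of_left_le_normalizer_right R R'
      ((Component.le_centralizer_of_ne hR (Component.conj hR s) (Ne.symm hne)).trans
        (Subgroup.centralizer_le_normalizer _))]
    exact x.2
  obtain ⟨a, ha, b, hb, hab⟩ := hxU
  have hab' : a * b = ((x : ↥C) : Q) := hab
  have hxs := Subgroup.mem_centralizer_singleton_iff.1 (x : ↥C).2
  rw [← hab'] at hxs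
  set c := (s * a * s)⁻¹ * b with hc
  have hcR' : c ∈ R' := mul_mem (inv_mem (hmem' a ha)) hb
  have hcR : c ∈ R := by
    have h2 : (s * b * s) * (s * a * s) = a * b := by
      calc s * b * s * (s * a * s) = s * b * (s * s) * a * s := by group
        _ = s * (b * a) * s := by rw [hs, mul_one]; group
        _ = s * (a * b * s) := by rw [← (hcomm a ha b hb).eq]; group
        _ = a * b := by rw [hxs, ← mul_assoc, hs, one_mul]
    have h3 : a⁻¹ * (s * b * s) = c := by
      rw [hc, ← mul_left_cancel_iff (a := a), mul_inv_cancel_left]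
      have h4 : a * ((s * a * s)⁻¹ * b) = (s * a * s)⁻¹ * (a * b) := by
        rw [← mul_assoc, ((hcomm a ha _ (hmem' a ha)).inv_right).eq, mul_assoc]
      rw [h4, ← h2, ← (hcomm _ (hback b hb) _ (hmem' a ha)).symm.eq, inv_mul_cancel_left]
    rw [← h3]
    exact mul_mem (inv_mem ha) (hback b hb)
  have hx : ((x : ↥C) : Q) = a * (s * a * s) * c := by
    rw [← hab', hc, mul_assoc, mul_inv_cancel_left]
  have hcq : Commute c ((q : ↥C) : Q) := by
    rw [show ((q : ↥C) : Q) = _ from hqa]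
    exact (hcomm a₀ ha₀ c hcR').symm.mul_right (hcomm c hcR _ (hmem' a₀ ha₀))
  rw [hx, show a * (s * a * s) * c * ((q : ↥C) : Q) * (a * (s * a * s) * c)⁻¹ =
      a * (s * a * s) * (c * ((q : ↥C) : Q) * c⁻¹) * (a * (s * a * s))⁻¹ by group, hcq.eq,
    mul_inv_cancel_right]
  have hLa : a * (s * a * s) ∈ L := (hLmem _).2 ⟨a, ha, rfl⟩
  exact mul_mem (mul_mem hLa hq) (inv_mem hLa)

end Cfsg.Agent.Lib.Intrinsic76
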