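import Cfsg.Agent.Lib.Intrinsic76.Final
import Mathlib

/-!
# Part (i): 2-elements of order at least 4 of `K` centralizing `zJ` normalize `J`

Owner: helper76 (intrinsic SL₂-components).
-/

set_option autoImplicit false
set_option linter.style.haveILetI false
open Cfsg

namespace Cfsg.Agent.Lib.Intrinsic76

open Components Balance

variable {G : Type*} [Group G] [Finite G] {N : ℕ} {J K : Subgroup G} {zJ zK : G}

theorem IP.exists_pow_eq (hK : IP N zK K) {y : G} (hy : y ∈ K) (hy2 : Two y) (hsq : y * y ≠ 1) :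
    ∃ k : ℕ, zK = (y * y) ^ k := by
  obtain ⟨i, hi⟩ := hy2
  induction i with
  | zero =>
    rw [pow_zero, pow_one] at hi
    exact absurd (by rw [hi, one_mul]) hsq
  | succ i ih =>
    by_cases h : y ^ 2 ^ i = 1
    · exact ih h
    rcases i with _ | i
    · exact absurd (by rw [pow_one, pow_two] at hi; exact hi) hsq
    refine ⟨2 ^ i, ?_⟩
    rw [← pow_two, ← pow_mul, ← pow_succ']
    refine (hK.uniq (pow_mem hy _) ?_ h).symm
    rw [← pow_two, ← pow_mul, ← pow_succ]
    exact hi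

theorem normalizes (hJ : IP N zJ J) (hK : IP N zK K) (hne : zJ ≠ zK) {y : G} (hy : y ∈ K)
    (hy2 : Two y) (hsq : y * y ≠ 1) (hcomm : y * zJ = zJ * y) :
    y ∈ Subgroup.normalizer (J : Set G) := by
  obtain ⟨k₀, hk₀⟩ := hK.exists_pow_eq hy hy2 hsq
  have hyJ : y ∈ Cen zJ := mem_Cen.2 hcomm
  have hzKJ : zK ∈ Cen zJ := by rw [hk₀]; exact pow_mem (mul_mem hyJ hyJ) _
  obtain ⟨x, hx, hx2⟩ := hJ.good.sqrt
  have hxne := hJ.good.sq_ne_one hx2
  have hxTwo : Two x := two_of_sq (hx2 ▸ two_of_mul_self hJ.good.z_sq)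
  have hN : N ≤ 2 * (Subgroup.center ↥(barS (Cen zJ) J)).index := hJ.two_mul_index.ge
  set z := bar (Cen zJ) zJ with hz
  set Z := bar (Cen zJ) zK with hZ
  have hZ2 : Z * Z = 1 := bar_mul_self hzKJ hK.inv
  have hZi : Z⁻¹ = Z := inv_eq_of_mul_eq_one_right hZ2
  -- elements of `K` centralizing `zJ` and moving `J` are studied through `zK`
  have hzn : zK ∈ Subgroup.normalizer (J : Set G) := by
    by_contra hzn
    have hyn : y ∉ Subgroup.normalizer (J : Set G) := fun h =>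
      hzn (by rw [hk₀]; exact pow_mem (mul_mem h h) _)
    have hne1 : J.map (MulAut.conj zK).toMonoidHom ≠ J := fun h =>
      hzn (Subgroup.mem_normalizer_iff_map_conj_eq.2 h)
    set J1 := J.map (MulAut.conj zK).toMonoidHom with hJ1
    set J2 := J.map (MulAut.conj y).toMonoidHom with hJ2
    set J3 := J1.map (MulAut.conj y).toMonoidHom with hJ3
    have hJ1' := hJ.conj_fix hzKJ
    have hJ2' := hJ.conj_fix hyJ
    have hJ3' := hJ1'.conj_fix hyJ
    have hzy : zK * y = y * zK := by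
      rw [hk₀]
      exact ((Commute.mul_left (Commute.refl y) (Commute.refl y)).pow_left k₀).eq
    have hzz : ∀ H : Subgroup G, (H.map (MulAut.conj zK).toMonoidHom).map (MulAut.conj zK).toMonoidHom = H := by
      intro H
      rw [Subgroup.map_map]
      refine (congrArg (fun φ => H.map φ) (MonoidHom.ext fun b => ?_)).trans (Subgroup.map_id H)
      show zK * (zK * b * zK⁻¹) * zK⁻¹ = b
      rw [show zK * (zK * b * zK⁻¹) * zK⁻¹ = (zK * zK) * b * (zK * zK)⁻¹ by group, hK.inv]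
      group
    have hswap : J2.map (MulAut.conj zK).toMonoidHom = J3 := by
      rw [hJ2, hJ3, hJ1, Subgroup.map_map, Subgroup.map_map]
      refine congrArg (fun φ => J.map φ) (MonoidHom.ext fun b => ?_)
      show zK * (y * b * y⁻¹) * zK⁻¹ = y * (zK * b * zK⁻¹) * y⁻¹
      rw [show zK * (y * b * y⁻¹) * zK⁻¹ = (zK * y) * b * (zK * y)⁻¹ by group, hzy]
      group
    have h20 : J2 ≠ J := fun h => hyn (Subgroup.mem_normalizer_iff_map_conj_eq.2 h)
    have h21 : J2 ≠ J1 := fun h => by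
      have h1 : zK * y ∈ Subgroup.normalizer (J : Set G) := by
        rw [Subgroup.mem_normalizer_iff_map_conj_eq]
        refine Eq.trans ?_ ((congrArg (fun H => H.map (MulAut.conj zK).toMonoidHom) h).trans (hzz J))
        rw [hJ2, Subgroup.map_map]
        exact congrArg (fun φ => J.map φ) (MonoidHom.ext fun b => by
          show zK * y * b * (zK * y)⁻¹ = zK * (y * b * y⁻¹) * zK⁻¹
          group)
      refine hzn ?_
      rw [hk₀, show y * y = (zK * y) * (zK * y) by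
        rw [(show Commute y zK from hzy.symm).mul_mul_mul_comm, hK.inv, one_mul]]
      exact pow_mem (mul_mem h1 h1) _
    have h30 : J3 ≠ J := fun h => h21 (by
      rw [← hzz J2, hswap, h])
    have h31 : J3 ≠ J1 := fun h => h20 (by
      rw [← hzz J2, hswap, h, hJ1, hzz])
    set R := barS (Cen zJ) J with hR
    have hne' : R.map (MulAut.conj Z).toMonoidHom ≠ R := fun h =>
      hzn (hJ.mem_normalizer hzKJ fun q hq => h.le ⟨q, hq, rfl⟩)
    obtain ⟨L, hL, hLc, hLmem, hLi⟩ := exists_diag hJ.isComponent hJ.good (bar_self_comm zJ) hZ2 hne'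
    have hm1 : ∀ a ∈ R, Z * a * Z ∈ barS (Cen zJ) J1 := fun a ha => by
      have h := hJ.conj_bar_mem hzKJ ha
      rwa [← hZ, hZi] at h
    set a₀ := x * (Z * x * Z) with ha₀
    set Y := bar (Cen zJ) y with hY
    have hcommL : ∀ a ∈ L, ∀ b ∈ L, Commute a (Y * b * Y⁻¹) := by
      intro a ha b hb
      obtain ⟨p, hp, rfl⟩ := (hLmem a).1 ha
      obtain ⟨q, hq, rfl⟩ := (hLmem b).1 hb
      rw [show Y * (q * (Z * q * Z)) * Y⁻¹ = Y * q * Y⁻¹ * (Y * (Z * q * Z) * Y⁻¹) by group]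
      have h2 := hJ.conj_bar_mem hyJ hq
      have h3 := hJ1'.conj_bar_mem hyJ (hm1 q hq)
      rw [← hY] at h2 h3
      exact ((hJ.commute hJ2' (Ne.symm h20) hp h2).mul_right (hJ.commute hJ3' (Ne.symm h30) hp h3)).mul_left
        ((hJ1'.commute hJ2' (Ne.symm h21) (hm1 p hp) h2).mul_right
          (hJ1'.commute hJ3' (Ne.symm h31) (hm1 p hp) h3))
    have ha₀L : a₀ ∈ L := (hLmem _).2 ⟨x, hx, rfl⟩
    have ha₀2 : Two a₀ := hxTwo.mul (by
      have := hxTwo.conj Z; rwa [hZi] at this) (hJ.commute hJ1' (Ne.symm hne1) hx (hm1 x hx))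
    refine no_lift hK hJ.inv hzKJ hL hLc (hLi ▸ hN) hy hyJ hcommL ha₀L ha₀2 fun h => ?_
    have hxcent : x = 1 ∨ x = z := hJ.good.cent₂ hx fun u hu => by
      have h1 : Commute (u * (Z * u * Z)) a₀ := by
        have := hcommL _ ((hLmem _).2 ⟨u, hu, rfl⟩) _ ha₀L
        rwa [h] at this
      have hc : ∀ {p q}, p ∈ R → q ∈ R → Commute (Z * p * Z) q := fun {p q} hp hq =>
        (hJ.commute hJ1' (Ne.symm hne1) hq (hm1 p hp)).symm
      have h2 : x * u * (Z * x * Z * (Z * u * Z)) = u * x * (Z * u * Z * (Z * x * Z)) := by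
        rw [← (hc hx hu).mul_mul_mul_comm, ← (hc hu hx).mul_mul_mul_comm, ← ha₀]
        exact h1.symm.eq
      have h3 : (u * x)⁻¹ * (x * u) = (Z * u * Z * (Z * x * Z)) * (Z * x * Z * (Z * u * Z))⁻¹ := by
        rw [eq_mul_inv_iff_mul_eq, mul_assoc, h2, inv_mul_cancel_left]
      have hmem : (u * x)⁻¹ * (x * u) ∈ R := mul_mem (inv_mem (mul_mem hu hx)) (mul_mem hx hu)
      have hcases := hJ.inter hJ1' (Ne.symm hne1) hmem (by
        rw [h3]
        exact mul_mem (mul_mem (hm1 u hu) (hm1 x hx)) (inv_mem (mul_mem (hm1 x hx) (hm1 u hu))))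
      rcases hcases with hz1 | hz1
      · left
        rw [(inv_mul_eq_one.1 hz1).symm]
        group
      · right
        rw [inv_mul_eq_iff_eq_mul] at hz1
        rw [hz1, mul_assoc (u * x), bar_self_comm zJ x⁻¹]
        calc u * x * (x⁻¹ * z) * u⁻¹ = u * z * u⁻¹ := by group
          _ = z := by rw [← bar_self_comm zJ u, mul_inv_cancel_right]
    exact hxcent.elim hxne.1 hxne.2
  have hzact : ∀ y' : G, y' ∈ K → y' * zJ = zJ * y' → y' ∉ Subgroup.normalizer (J : Set G) →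
      ∃ a ∈ barS (Cen zJ) J, Z * a ≠ a * Z := by
    intro y' hy' hc' hn'
    by_contra hcon
    push Not at hcon
    have hy'J : y' ∈ Cen zJ := mem_Cen.2 hc'
    have hne2 : J.map (MulAut.conj y').toMonoidHom ≠ J := fun h =>
      hn' (Subgroup.mem_normalizer_iff_map_conj_eq.2 h)
    have hle : barS (Cen zJ) J ≤ Subgroup.centralizer ({Z} : Set (Qc (Cen zJ))) := fun a ha =>
      Subgroup.mem_centralizer_singleton_iff.2 (hcon a ha).symm
    refine no_lift hK hJ.inv hzKJ hle (Component.subgroupOf hJ.isComponent hle) hN hy' hy'J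
      (fun a ha b hb => hJ.commute (hJ.conj_fix hy'J) (Ne.symm hne2) ha (hJ.conj_bar_mem hy'J hb))
      hx hxTwo fun h => ?_
    rcases hJ.inter (hJ.conj_fix hy'J) (Ne.symm hne2) hx (h ▸ hJ.conj_bar_mem hy'J hx) with h' | h'
    exacts [hxne.1 h', hxne.2 h']
  by_contra hyn
  classical
  have hex : ∃ n : ℕ, y ^ 2 ^ n ∈ Subgroup.normalizer (J : Set G) := by
    obtain ⟨i, hi⟩ := hy2
    exact ⟨i, by rw [hi]; exact one_mem _⟩
  have hn0 : Nat.find hex ≠ 0 := fun h => hyn (by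
    have := Nat.find_spec hex
    rwa [h, pow_zero, pow_one] at this)
  obtain ⟨n, hn⟩ := Nat.exists_eq_succ_of_ne_zero hn0
  set y₁ := y ^ 2 ^ n with hy₁
  have hy₁n : y₁ ∉ Subgroup.normalizer (J : Set G) := Nat.find_min hex (by omega)
  have hy₁K : y₁ ∈ K := pow_mem hy _
  have hy₁c : y₁ * zJ = zJ * y₁ := (Commute.pow_left hcomm _).eq
  have hy₁sq : y₁ * y₁ ∈ Subgroup.normalizer (J : Set G) := by
    have := Nat.find_spec hex
    rwa [hn, pow_succ, pow_mul, pow_two] at this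
  have hy₁ne : y₁ * y₁ ≠ 1 := fun h => hy₁n (by
    rw [hK.uniq hy₁K h fun h1 => hy₁n (h1 ▸ one_mem _)]
    exact hzn)
  exact Ctx.false (N := N) (y := y₁)
    ⟨hJ, hK, hne, hy₁K, hy2.pow _, hy₁ne, hy₁c, hy₁n, hy₁sq, hzn,
      hK.exists_pow_eq hy₁K (hy2.pow _) hy₁ne, hzact y₁ hy₁K hy₁c hy₁n⟩

end Cfsg.Agent.Lib.Intrinsic76
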