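import Cfsg.Agent.Lib.Intrinsic76.PartOne
import Mathlib

/-!
# Part (ii): `zJ ∈ N(K)` implies `zK ∈ N(J)`

Owner: helper76 (intrinsic SL₂-components).
-/

set_option autoImplicit false
set_option linter.style.haveILetI false
open Cfsg

namespace Cfsg.Agent.Lib.Intrinsic76

open Components Balance

variable {G : Type*} [Group G] [Finite G] {N : ℕ} {J K : Subgroup G} {zJ zK : G}

/-- An element of the image of `K` fixed by an involution `t` normalizing `K` lifts to an element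
of `K` centralizing `t`. -/
theorem IP.exists_lift_fixed (hK : IP N zK K) {t : G} (ht : t ∈ Cen zK) (ht2 : t * t = 1)
    (htn : t ∈ Subgroup.normalizer (K : Set G)) {q : Qc (Cen zK)} (hq : q ∈ barS (Cen zK) K)
    (hqt : q * bar (Cen zK) t = bar (Cen zK) t * q) :
    ∃ a ∈ K, a * t = t * a ∧ bar (Cen zK) a = q := by
  obtain ⟨h, hh, hhC, rfl⟩ := mem_barS.1 hq
  have hti : t⁻¹ = t := inv_eq_of_mul_eq_one_right ht2
  have hb : bar (Cen zK) (h * t * h⁻¹ * t) = 1 := by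
    rw [bar_mul (mul_mem (mul_mem hhC ht) (inv_mem hhC)) ht, bar_conj hhC ht, hqt,
      mul_inv_cancel_right, bar_mul_self ht ht2]
  have hK' : h * t * h⁻¹ * t ∈ K := by
    have h1 := (Subgroup.mem_normalizer_iff.1 htn h⁻¹).1 (inv_mem hh)
    rw [hti] at h1
    rw [show h * t * h⁻¹ * t = h * (t * h⁻¹ * t) by group]
    exact mul_mem hh h1
  obtain ⟨o, ho, hoe, -⟩ := exists_conj (N := coreIn 2 (Cen zK) ⊓ K)
    ((odd_core (Cen zK)).of_dvd_nat (Subgroup.card_dvd_of_le inf_le_left)) (a := h * t * h⁻¹) (b := t)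
    (by rw [show h * t * h⁻¹ * (h * t * h⁻¹) = h * (t * t) * h⁻¹ by group, ht2, mul_one, mul_inv_cancel])
    ht2 ⟨(bar_eq_one_iff (mul_mem (mul_mem (mul_mem hhC ht) (inv_mem hhC)) ht)).1 hb, hK'⟩
  refine ⟨o * h, mul_mem ho.2 hh, ?_, ?_⟩
  · calc o * h * t = o * (h * t * h⁻¹) * o⁻¹ * (o * h) := by group
      _ = t * (o * h) := by rw [hoe]
  · rw [bar_mul (coreIn_le _ ho.1) hhC, bar_of_mem_core ho.1, one_mul]

theorem normalizes_symm (hJ : IP N zJ J) (hK : IP N zK K) (hne : zJ ≠ zK)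
    (hzJ : zJ ∈ Subgroup.normalizer (K : Set G)) : zK ∈ Subgroup.normalizer (J : Set G) := by
  have hcomm : zJ * zK = zK * zJ := by
    refine mul_inv_eq_iff_eq_mul.1 (hK.uniq ((Subgroup.mem_normalizer_iff.1 hzJ zK).1 hK.mem) ?_
      fun h => hK.ne (conj_eq_one_iff.1 h))
    rw [show zJ * zK * zJ⁻¹ * (zJ * zK * zJ⁻¹) = zJ * (zK * zK) * zJ⁻¹ by group, hK.inv, mul_one,
      mul_inv_cancel]
  by_contra hzn
  have hzKJ : zK ∈ Cen zJ := mem_Cen.2 hcomm.symm
  have hzJK : zJ ∈ Cen zK := mem_Cen.2 hcomm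
  set z := bar (Cen zJ) zJ with hz
  set Z := bar (Cen zJ) zK with hZ
  set R := barS (Cen zJ) J with hR
  have hZ2 : Z * Z = 1 := bar_mul_self hzKJ hK.inv
  have hZi : Z⁻¹ = Z := inv_eq_of_mul_eq_one_right hZ2
  set J1 := J.map (MulAut.conj zK).toMonoidHom with hJ1
  have hJ1' := hJ.conj_fix hzKJ
  have hne1 : J1 ≠ J := fun h => hzn (Subgroup.mem_normalizer_iff_map_conj_eq.2 h)
  have hne' : R.map (MulAut.conj Z).toMonoidHom ≠ R := fun h =>
    hzn (hJ.mem_normalizer hzKJ fun q hq => h.le ⟨q, hq, rfl⟩)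
  obtain ⟨L, hL, hLc, hLmem, hLi⟩ := exists_diag hJ.isComponent hJ.good (bar_self_comm zJ) hZ2 hne'
  have hm1 : ∀ a ∈ R, Z * a * Z ∈ barS (Cen zJ) J1 := fun a ha => by
    have h := hJ.conj_bar_mem hzKJ ha
    rwa [← hZ, hZi] at h
  obtain ⟨x, hx, hx2⟩ := hJ.good.sqrt
  have hxne := hJ.good.sq_ne_one hx2
  have hxc : ∀ {p q}, p ∈ R → q ∈ R → Commute (Z * p * Z) q := fun {p q} hp hq =>
    (hJ.commute hJ1' (Ne.symm hne1) hq (hm1 p hp)).symm
  set d₀ := x * (Z * x * Z) with hd₀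
  have hd₀L : d₀ ∈ L := (hLmem _).2 ⟨x, hx, rfl⟩
  have hzZ : Z * z * Z = z := by rw [← bar_self_comm zJ Z, mul_assoc, hZ2, mul_one]
  have hd₀2 : d₀ * d₀ = 1 := by
    rw [hd₀, (hxc hx hx).mul_mul_mul_comm, hx2,
      show Z * x * Z * (Z * x * Z) = Z * (x * (Z * Z) * x) * Z by group, hZ2, mul_one, hx2, hzZ,
      hJ.good.z_sq]
  have hd₀ne : d₀ ≠ 1 := fun h => by
    have h' : x⁻¹ = Z * x * Z := inv_eq_of_mul_eq_one_right h
    rcases hJ.inter hJ1' (Ne.symm hne1) (inv_mem hx) (h' ▸ hm1 x hx) with h1 | h1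
    · exact hxne.1 (inv_eq_one.1 h1)
    · exact hxne.2 (by rw [← inv_inv x, h1, hJ.good.z_inv])
  have heven : Even (Nat.card ↥L) := by
    by_contra hodd
    exact hd₀ne ((oddEl_of_mem (Nat.not_even_iff_odd.1 hodd) hd₀L).eq_one (two_of_mul_self hd₀2))
  obtain ⟨P, hP⟩ := exists_isLift hJ.inv hK.inv hzKJ hL hLc heven
  have hNJ : N ≤ 2 * (Subgroup.center ↥R).index := hJ.two_mul_index.ge
  -- `zJ` does not centralize `K` modulo the core
  set Zk := bar (Cen zK) zK with hZk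
  set zk := bar (Cen zK) zJ with hzk
  set S := barS (Cen zK) K with hS
  have hact : ∃ k ∈ S, zk * k ≠ k * zk := by
    by_contra hcon
    push Not at hcon
    obtain ⟨k, hk, hk2⟩ := hK.good.sqrt
    obtain ⟨a, ha, hac, hab⟩ := hK.exists_lift_fixed hzJK hJ.inv hzJ hk (hcon k hk).symm
    obtain ⟨m, hm, hm'⟩ := exists_two_pow a
    have hbar : bar (Cen zK) (a ^ m) = k := by
      rw [bar_pow (hK.le ha), hm' _ (by rw [← bar_pow (hK.le ha), pow_orderOf_eq_one, bar_one])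
        (hab ▸ two_of_sq (hk2 ▸ two_of_mul_self hK.good.z_sq)), hab]
    have hsq : a ^ m * a ^ m ≠ 1 := fun h => hK.good.z_ne (by
      rw [← hk2, ← hbar, ← bar_mul (pow_mem (hK.le ha) m) (pow_mem (hK.le ha) m), h, bar_one])
    obtain ⟨i, hi⟩ := hK.exists_pow_eq (pow_mem ha m) hm hsq
    have h1 := normalizes hJ hK hne (pow_mem ha m) hm hsq ((Commute.pow_left hac m).eq)
    exact hzn (by rw [hi]; exact pow_mem (mul_mem h1 h1) i)
  have htriv : ∀ p ∈ P, ∀ b ∈ S, bar (Cen zK) p * b = b * bar (Cen zK) p := by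
    refine (hK.dichotomy hP (hLi ▸ hNJ)).resolve_right fun honto => ?_
    obtain ⟨k, hk, hk'⟩ := hact
    exact hk' (hK.centralize_of_commute (hP.le.trans inf_le_right) honto hzJK hzJ
      (fun p hp => (mem_Cen.1 (hP.le hp).1).symm) k hk)
  -- an involution of `P` over `d₀`
  obtain ⟨p, hp, -, hpb⟩ := mem_barS.1 (hP.map_eq.ge hd₀L)
  obtain ⟨k, hk, hk2⟩ := exists_odd_pow p
  have hpJ : p ∈ Cen zJ := (hP.le hp).1
  set d := p ^ k with hd
  have hdP : d ∈ P := pow_mem hp k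
  have hdJ : d ∈ Cen zJ := (hP.le hdP).1
  have hdK : d ∈ Cen zK := (hP.le hdP).2
  have hdb : bar (Cen zJ) d = d₀ := by rw [hd, bar_pow hpJ, hpb, pow_odd_of_mul_self hd₀2 hk]
  have hd2 : d * d = 1 := (oddEl_of_bar (mul_mem hdJ hdJ) (by
    rw [bar_mul hdJ hdJ, hdb, hd₀2])).eq_one (hk2.mul hk2 (Commute.refl _))
  have hd1 : d ≠ 1 := fun h => hd₀ne (by rw [← hdb, h, bar_one])
  have hdzJ : Commute d zJ := mem_Cen.1 hdJ
  have hdzK : Commute d zK := mem_Cen.1 hdK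
  set z3 := zJ * zK with hz3
  have hz3K : z3 ∈ Cen zK := mul_mem hzJK (self_mem_Cen zK)
  have hz32 : z3 * z3 = 1 := by
    rw [hz3, (show Commute zK zJ from hcomm.symm).mul_mul_mul_comm, hJ.inv, hK.inv, one_mul]
  -- `kt`: fixes `d`, carries `zJ` to `z3`
  obtain ⟨g, hg, -, hgz⟩ := exists_twist hK.good (bar_mul_self hzJK hJ.inv)
    (fun b hb => hK.bar_conj_mem hzJK hzJ hb) hact
  obtain ⟨kt, hkt, hktd, hktz, -⟩ := exists_lift_conj₂ (C := Cen zK) (q := g) hdK hzJK hdK hz3K hd2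
    hJ.inv hd2 hz32 hdzJ (hdzJ.mul_right hdzK)
    (by rw [← htriv d hdP g hg, mul_inv_cancel_right])
    (by
      have h1 : zk * g = g * Zk * zk := mul_inv_eq_iff_eq_mul.1 hgz
      rw [hz3, bar_mul hzJK (self_mem_Cen zK), mul_inv_eq_iff_eq_mul, ← hzk, ← hZk, mul_assoc zk,
        hK.good.z_comm hg, ← mul_assoc, h1, mul_assoc g Zk zk, bar_self_comm zK zk, mul_assoc,
        mul_assoc, hK.good.z_sq, mul_one])
  -- `xt`: fixes `d`, carries `zK` to `d z3`
  have hxd : x * d₀ * x⁻¹ = d₀ := by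
    rw [hd₀, show x * (x * (Z * x * Z)) * x⁻¹ = x * (x * (Z * x * Z) * x⁻¹) by group,
      mul_assoc x (Z * x * Z) x⁻¹, (hxc hx (inv_mem hx)).eq, mul_inv_cancel_left]
  have hd3J : d * z3 ∈ Cen zJ := mul_mem hdJ (mul_mem (self_mem_Cen zJ) hzKJ)
  have hd32 : d * z3 * (d * z3) = 1 := by
    rw [(show Commute z3 d from (hdzJ.mul_right hdzK).symm).mul_mul_mul_comm, hd2, hz32, one_mul]
  obtain ⟨xt, hxt, hxtd, hxtz, -⟩ := exists_lift_conj₂ (C := Cen zJ) (q := x) hdJ hzKJ hdJ hd3J hd2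
    hK.inv hd2 hd32 hdzK ((Commute.refl d).mul_right (hdzJ.mul_right hdzK))
    (by rw [hdb, hxd])
    (by
      rw [bar_mul hdJ (mul_mem (self_mem_Cen zJ) hzKJ), bar_mul (self_mem_Cen zJ) hzKJ, hdb, hd₀,
        ← hz, ← hZ]
      calc x * Z * x⁻¹ = x * (Z * x⁻¹ * Z) * (Z * Z)⁻¹ * Z := by group
        _ = x * (Z * (x * z) * Z) * Z := by rw [hZ2, hJ.good.inv_of_sq hx2, inv_one, mul_one]
        _ = x * (Z * x * Z) * (Z * z * Z) * Z := by
          rw [mul_assoc x (Z * x * Z), show Z * x * Z * (Z * z * Z) = Z * x * (Z * Z) * z * Z by group,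
            hZ2]; group
        _ = _ := by rw [hzZ]; simp only [mul_assoc])
  -- `vt`: carries `d zJ` to `d`
  obtain ⟨v, hv, hv2, hvx⟩ := hJ.good.anti x hx hx2
  have hdj2 : d * zJ * (d * zJ) = 1 := by
    rw [hdzJ.symm.mul_mul_mul_comm, hd2, hJ.inv, one_mul]
  obtain ⟨vt, hvt, hvtd, -⟩ := exists_lift_conj (C := Cen zJ) (q := v) (mul_mem hdJ (self_mem_Cen zJ)) hdJ
    hdj2 hd2 (by
      rw [bar_mul hdJ (self_mem_Cen zJ), hdb, ← hz, hd₀]
      have h1 : v * x * v⁻¹ = x * z := by rw [hvx, hJ.good.inv_of_sq hx2]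
      calc v * (x * (Z * x * Z) * z) * v⁻¹ = v * x * ((Z * x * Z) * (z * v⁻¹)) := by group
        _ = v * x * ((Z * x * Z) * v⁻¹ * z) := by rw [bar_self_comm zJ v⁻¹, ← hz]; group
        _ = v * x * v⁻¹ * (Z * x * Z) * z := by rw [(hxc hx (inv_mem hv)).eq]; group
        _ = x * (z * (Z * x * Z)) * z := by rw [h1]; group
        _ = _ := by
          rw [bar_self_comm zJ (Z * x * Z), ← mul_assoc x, mul_assoc _ z z, hJ.good.z_sq, mul_one])
  set γ := vt * kt⁻¹ * xt with hγ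
  have hγz : γ * zK * γ⁻¹ = d := by
    rw [hγ, show vt * kt⁻¹ * xt * zK * (vt * kt⁻¹ * xt)⁻¹ = vt * (kt⁻¹ * (xt * zK * xt⁻¹) * kt) * vt⁻¹ by group,
      hxtz, show kt⁻¹ * (d * z3) * kt = (kt⁻¹ * d * kt) * (kt⁻¹ * z3 * kt) by group,
      show kt⁻¹ * d * kt = d by conv_lhs => rw [← hktd]
                                group,
      show kt⁻¹ * z3 * kt = zJ by rw [← hktz]; group, hvtd]
  have hIP : IP N d (K.map (MulAut.conj γ).toMonoidHom) := by
    have := hK.conj γ; rwa [hγz] at this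
  -- `zK` centralizes each such component of `C(d)` modulo the core
  have hSc : S ≤ Subgroup.centralizer ({bar (Cen zK) d} : Set (Qc (Cen zK))) := fun b hb =>
    Subgroup.mem_centralizer_singleton_iff.2 (htriv d hdP b hb).symm
  have hSeven : Even (Nat.card ↥S) := by
    by_contra hodd
    exact hK.good.z_ne ((oddEl_of_mem (Nat.not_even_iff_odd.1 hodd) hK.t_mem).eq_one
      (two_of_mul_self hK.good.z_sq))
  obtain ⟨P₀, hP₀⟩ := exists_isLift hK.inv hd2 hdK hSc (Component.subgroupOf hK.isComponent hSc) hSeven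
  have hzKP₀ : zK ∈ P₀ := by
    obtain ⟨q, hq, -, hqb⟩ := mem_barS.1 (hP₀.map_eq.ge hK.t_mem)
    obtain ⟨l, hl, hl2⟩ := exists_odd_pow q
    have hqK : q ∈ Cen zK := (hP₀.le hq).1
    have heb : bar (Cen zK) (q ^ l) = Zk := by
      rw [bar_pow hqK, hqb, pow_odd_of_mul_self hK.good.z_sq hl]
    have he2 : q ^ l * q ^ l = 1 := (oddEl_of_bar (mul_mem (pow_mem hqK l) (pow_mem hqK l)) (by
      rw [bar_mul (pow_mem hqK l) (pow_mem hqK l), heb, hK.good.z_sq])).eq_one (hl2.mul hl2 (Commute.refl _))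
    have heq : q ^ l = zK := eq_of_oddEl_mul he2 hK.inv (mem_Cen.1 (pow_mem hqK l))
      (oddEl_of_bar (mul_mem (pow_mem hqK l) (self_mem_Cen zK)) (by
        rw [bar_mul (pow_mem hqK l) (self_mem_Cen zK), heb, hK.good.z_sq]))
    rw [← heq]
    exact pow_mem hq l
  have hcent : ∀ M : Subgroup G, IP N d M → ∀ b ∈ barS (Cen d) M,
      bar (Cen d) zK * b = b * bar (Cen d) zK := fun M hM =>
    hM.centralize_of_central hP₀ hK.two_mul_index.ge hzKP₀ fun l _ => bar_self_comm zK l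
  set L' := K.map (MulAut.conj γ).toMonoidHom with hL'
  set S' := barS (Cen d) L' with hS'
  have hxtd' : xt ∈ Cen d := mem_Cen.2 (mul_inv_eq_iff_eq_mul.1 hxtd)
  have hzKd : zK ∈ Cen d := mem_Cen.2 hdzK.symm.eq
  have hzJd : zJ ∈ Cen d := mem_Cen.2 hdzJ.symm.eq
  have hcentJ : ∀ b ∈ S', bar (Cen d) zJ * b = b * bar (Cen d) zJ := by
    intro b hb
    set X := bar (Cen d) xt with hX
    have hb' := hIP.conj_bar_mem (inv_mem hxtd') hb
    rw [bar_inv hxtd'] at hb'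
    have h1 := hcent _ (hIP.conj_fix (inv_mem hxtd')) _ hb'
    have h2 : X * bar (Cen d) zK * X⁻¹ = bar (Cen d) d * bar (Cen d) zJ * bar (Cen d) zK := by
      rw [← bar_conj hxtd' hzKd, hxtz, hz3, bar_mul (self_mem_Cen d) (mul_mem hzJd hzKd),
        bar_mul hzJd hzKd, ← mul_assoc]
    have h3 : X * bar (Cen d) zK * X⁻¹ * b = b * (X * bar (Cen d) zK * X⁻¹) := by
      calc X * bar (Cen d) zK * X⁻¹ * b = X * (bar (Cen d) zK * (X⁻¹ * b * X⁻¹⁻¹)) * X⁻¹ := by group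
        _ = X * ((X⁻¹ * b * X⁻¹⁻¹) * bar (Cen d) zK) * X⁻¹ := by rw [h1]
        _ = _ := by group
    rw [h2, mul_assoc (bar (Cen d) d * bar (Cen d) zJ), hcent L' hIP b hb, ← mul_assoc, ← mul_assoc b] at h3
    have h4 := mul_right_cancel h3
    rw [mul_assoc (bar (Cen d) d), ← mul_assoc b, ← bar_self_comm d b, mul_assoc] at h4
    exact mul_left_cancel h4
  -- hence `d` centralizes the image of `J`
  have hS'c : S' ≤ Subgroup.centralizer ({bar (Cen d) zJ} : Set (Qc (Cen d))) := fun b hb =>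
    Subgroup.mem_centralizer_singleton_iff.2 (hcentJ b hb).symm
  have hS'even : Even (Nat.card ↥S') := by
    by_contra hodd
    exact hIP.good.z_ne ((oddEl_of_mem (Nat.not_even_iff_odd.1 hodd) hIP.t_mem).eq_one
      (two_of_mul_self hIP.good.z_sq))
  obtain ⟨P₂, hP₂⟩ := exists_isLift hd2 hJ.inv hzJd hS'c (Component.subgroupOf hIP.isComponent hS'c) hS'even
  have hdP₂ : d ∈ P₂ := by
    obtain ⟨q, hq, -, hqb⟩ := mem_barS.1 (hP₂.map_eq.ge hIP.t_mem)
    obtain ⟨l, hl, hl2⟩ := exists_odd_pow q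
    have hqd : q ∈ Cen d := (hP₂.le hq).1
    have heb : bar (Cen d) (q ^ l) = bar (Cen d) d := by
      rw [bar_pow hqd, hqb, pow_odd_of_mul_self hIP.good.z_sq hl]
    have he2 : q ^ l * q ^ l = 1 := (oddEl_of_bar (mul_mem (pow_mem hqd l) (pow_mem hqd l)) (by
      rw [bar_mul (pow_mem hqd l) (pow_mem hqd l), heb, hIP.good.z_sq])).eq_one (hl2.mul hl2 (Commute.refl _))
    have heq : q ^ l = d := eq_of_oddEl_mul he2 hd2 (mem_Cen.1 (pow_mem hqd l))
      (oddEl_of_bar (mul_mem (pow_mem hqd l) (self_mem_Cen d)) (by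
        rw [bar_mul (pow_mem hqd l) (self_mem_Cen d), heb, hIP.good.z_sq]))
    rw [← heq]
    exact pow_mem hq l
  have hfin := hJ.centralize_of_central hP₂ hIP.two_mul_index.ge hdP₂ fun l _ => bar_self_comm d l
  refine hJ.good.not_central hx hx2 fun u hu => ?_
  have h1 := hfin u hu
  rw [hdb, hd₀] at h1
  have h2 : x * (Z * x * Z) * u = x * u * (Z * x * Z) := by
    rw [mul_assoc, (hxc hx hu).eq]
    simp only [mul_assoc]
  rw [h2, ← mul_assoc u] at h1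
  exact mul_right_cancel h1

end Cfsg.Agent.Lib.Intrinsic76
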