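import Cfsg.Agent.Lib.Intrinsic76.Good
import Cfsg.Agent.Lib.Linear.SL2
import Cfsg.Agent.S0447
import Cfsg.Prelude.Def_SporadicB
import Mathlib

/-!
# SL₂(q), q odd, and 2A₇ have the properties of `GoodIn`

Owner: helper76 (intrinsic SL₂-components).
-/

set_option autoImplicit false
set_option linter.style.haveILetI false
open Cfsg

namespace Cfsg.Agent.Lib.Intrinsic76

/-- The properties of the model which `GoodIn` needs. -/
structure Model (T : Type*) [Group T] : Prop where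
  center_sq : ∀ a ∈ Subgroup.center T, a * a = 1
  sqrt : ∃ x : T, x * x ≠ 1 ∧ x * x * (x * x) = 1
  conj : ∀ u v : T, u * u = v * v → u * u ≠ 1 → u * u * (u * u) = 1 → ∃ g : T, g * u * g⁻¹ = v
  anti : ∀ u : T, u * u ≠ 1 → u * u * (u * u) = 1 → ∃ v : T, v * v = u * u ∧ v * u * v⁻¹ = u⁻¹

theorem goodIn_of_model {Q T : Type*} [Group Q] [Group T] {R : Subgroup Q} {z : Q}
    (qs : IsQuasisimple ↥R) (hz : z ∈ R) (hz1 : z ≠ 1) (hz2 : z * z = 1)
    (huniq : ∀ u ∈ R, u * u = 1 → u = 1 ∨ u = z) (e : ↥R ≃* T) (hT : Model T) :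
    GoodIn R z := by
  have key : ∀ u : ↥R, (u : Q) * u = z → e u * e u ≠ 1 ∧ e u * e u * (e u * e u) = 1 := by
    intro u hu
    refine ⟨fun h => hz1 ?_, ?_⟩
    · rw [← map_mul, EmbeddingLike.map_eq_one_iff] at h
      rw [← hu]; exact congrArg Subtype.val h
    · rw [← map_mul, ← map_mul, show u * u * (u * u) = 1 from Subtype.ext (by
        show (u : Q) * u * ((u : Q) * u) = 1
        rw [hu, hz2]), map_one]
  refine ⟨qs, hz, hz1, hz2, huniq, ?_, ?_, ?_, ?_⟩
  · intro a ha hc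
    refine huniq a ha ?_
    have h1 : e ⟨a, ha⟩ ∈ Subgroup.center T := Subgroup.mem_center_iff.2 fun b => by
      obtain ⟨b, rfl⟩ := e.surjective b
      rw [← map_mul, ← map_mul]
      exact congrArg e (Subtype.ext (hc b b.2).symm)
    have h2 := hT.center_sq _ h1
    rw [← map_mul, EmbeddingLike.map_eq_one_iff] at h2
    exact congrArg Subtype.val h2
  · obtain ⟨x, hx1, hx2⟩ := hT.sqrt
    obtain ⟨x, rfl⟩ := e.surjective x
    rw [← map_mul] at hx1 hx2
    rw [← map_mul, EmbeddingLike.map_eq_one_iff] at hx2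
    refine ⟨x, x.2, (huniq _ (mul_mem x.2 x.2) (congrArg Subtype.val hx2)).resolve_left fun h => hx1 ?_⟩
    rw [show x * x = 1 from Subtype.ext h, map_one]
  · intro u hu v hv hu2 hv2
    obtain ⟨h1, h2⟩ := key ⟨u, hu⟩ hu2
    obtain ⟨g, hg⟩ := hT.conj (e ⟨u, hu⟩) (e ⟨v, hv⟩) (by
      rw [← map_mul, ← map_mul]
      exact congrArg e (Subtype.ext (hu2.trans hv2.symm))) h1 h2
    obtain ⟨g, rfl⟩ := e.surjective g
    rw [← map_inv, ← map_mul, ← map_mul] at hg
    exact ⟨g, g.2, congrArg Subtype.val (e.injective hg)⟩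
  · intro u hu hu2
    obtain ⟨h1, h2⟩ := key ⟨u, hu⟩ hu2
    obtain ⟨v, hv1, hv2⟩ := hT.anti _ h1 h2
    obtain ⟨v, rfl⟩ := e.surjective v
    rw [← map_mul, ← map_mul] at hv1
    rw [← map_inv, ← map_inv, ← map_mul, ← map_mul] at hv2
    exact ⟨v, v.2, (congrArg Subtype.val (e.injective hv1)).trans hu2,
      congrArg Subtype.val (e.injective hv2)⟩

section ModelLinear

variable (F : Type) [Field F] [Fintype F]

local notation "SL2" => Matrix.SpecialLinearGroup (Fin 2) F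
local notation "M2" => Matrix (Fin 2) (Fin 2) F

theorem exists_sum_two_squares (hF : Odd (Fintype.card F)) (c : F) : ∃ a b : F, a ^ 2 + b ^ 2 = c := by
  obtain ⟨a, b, hab⟩ := FiniteField.exists_root_sum_quadratic
    (f := (Polynomial.X : Polynomial F) ^ 2) (g := Polynomial.X ^ 2 - Polynomial.C c)
    (Polynomial.degree_X_pow 2) (Polynomial.degree_X_pow_sub_C two_pos c) (Nat.odd_iff.1 hF)
  refine ⟨a, b, ?_⟩
  simp only [Polynomial.eval_pow, Polynomial.eval_X, Polynomial.eval_sub, Polynomial.eval_C] at hab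
  linear_combination hab

/-- The standard element of order four. -/
def wMat : Matrix.SpecialLinearGroup (Fin 2) F :=
  ⟨!![0, -1; 1, 0], by simp [Matrix.det_fin_two]⟩

theorem wMat_sq : ((wMat F * wMat F : SL2) : M2) = -1 := by
  show ((wMat F : SL2) : M2) * ((wMat F : SL2) : M2) = -1
  ext i j
  fin_cases i <;> fin_cases j <;> simp [wMat, Matrix.mul_apply, Fin.sum_univ_two]

theorem sl2_sqrt_form {u : SL2} (h2 : (2 : F) ≠ 0) (hu : ((u * u : SL2) : M2) = -1) :
    (u : M2) 1 1 = -(u : M2) 0 0 := by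
  have h : (u : M2) * (u : M2) = -1 := hu
  rw [Linear.sl2_mul_self, sub_eq_neg_self] at h
  rcases smul_eq_zero.1 h with h0 | h0
  · rw [Matrix.trace_fin_two] at h0
    linear_combination h0
  · have := Linear.sl2_det u
    rw [h0] at this
    simp at this

theorem sl2_conj_wMat (hF : Odd (Fintype.card F)) {u : SL2} (hu : ((u * u : SL2) : M2) = -1) :
    ∃ g : SL2, g * wMat F * g⁻¹ = u := by
  have h2 := Linear.two_ne_zero_of_odd_card hF
  have hd := sl2_sqrt_form F h2 hu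
  have hdet := Linear.sl2_det u
  rw [hd] at hdet
  set a := (u : M2) 0 0
  set b := (u : M2) 0 1
  set c := (u : M2) 1 0
  obtain ⟨x, y, hxy⟩ : ∃ x y : F, c * x ^ 2 - 2 * a * x * y - b * y ^ 2 = 1 := by
    by_cases hc : c = 0
    · have ha : 2 * a ≠ 0 := by
        refine mul_ne_zero h2 fun ha => ?_
        rw [ha, hc] at hdet
        simp at hdet
      refine ⟨-(1 + b) / (2 * a), 1, ?_⟩
      have hmul : 2 * a * (-(1 + b) / (2 * a)) = -(1 + b) := mul_div_cancel₀ _ ha
      rw [hc]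
      linear_combination (-1) * hmul
    · obtain ⟨X, Y, hXY⟩ := exists_sum_two_squares F hF c
      refine ⟨(X + a * Y) / c, Y, mul_left_cancel₀ hc ?_⟩
      have hmul : c * ((X + a * Y) / c) = X + a * Y := mul_div_cancel₀ _ hc
      linear_combination (c * ((X + a * Y) / c) + (X + a * Y) - 2 * a * Y) * hmul + hXY + Y ^ 2 * hdet
  obtain ⟨g, hg⟩ : ∃ g : SL2, (g : M2) = !![x, a * x + b * y; y, c * x - a * y] :=
    ⟨⟨_, by simp [Matrix.det_fin_two]; linear_combination hxy⟩, rfl⟩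
  refine ⟨g, ?_⟩
  rw [mul_inv_eq_iff_eq_mul]
  apply Subtype.ext
  show (g : M2) * (wMat F : M2) = (u : M2) * (g : M2)
  rw [hg]
  ext i j
  fin_cases i <;> fin_cases j <;> simp [wMat, Matrix.mul_apply, Fin.sum_univ_two, hd, a, b, c] <;>
    first
      | ring1
      | linear_combination x * hdet
      | linear_combination y * hdet
      | linear_combination (-x) * hdet
      | linear_combination (-y) * hdet

theorem sl2_neg_one {u : SL2} (h2 : (2 : F) ≠ 0) (h1 : u * u ≠ 1) (h4 : u * u * (u * u) = 1) :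
    ((u * u : SL2) : M2) = -1 := by
  have h := Linear.eq_neg_one_of_mul_self h2 h1 h4
  simpa using h

theorem model_sl2 (hF : Odd (Fintype.card F)) : Model SL2 := by
  have h2 := Linear.two_ne_zero_of_odd_card hF
  have hne : ((-1 : M2)) ≠ 1 := fun h => by
    have h00 := congrFun (congrFun h 0) 0
    simp at h00
    exact h2 (by linear_combination -h00)
  have hw : wMat F * wMat F ≠ 1 ∧ wMat F * wMat F * (wMat F * wMat F) = 1 := by
    refine ⟨fun h => hne ?_, Subtype.ext ?_⟩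
    · rw [← wMat_sq F, h]; rfl
    · show ((wMat F * wMat F : SL2) : M2) * ((wMat F * wMat F : SL2) : M2) = 1
      rw [wMat_sq]; simp
  refine ⟨?_, ⟨wMat F, hw⟩, ?_, ?_⟩
  · intro g hg
    have e1 := Subgroup.mem_center_iff.1 hg ⟨!![1, 1; 0, 1], by simp [Matrix.det_fin_two]⟩
    have e2 := Subgroup.mem_center_iff.1 hg ⟨!![1, 0; 1, 1], by simp [Matrix.det_fin_two]⟩
    have e1' : !![1, 1; 0, 1] * (g : M2) = (g : M2) * !![1, 1; 0, 1] :=
      congrArg (fun m : SL2 => (m : M2)) e1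
    have e2' : !![1, 0; 1, 1] * (g : M2) = (g : M2) * !![1, 0; 1, 1] :=
      congrArg (fun m : SL2 => (m : M2)) e2
    have a00 := congrFun (congrFun e1' 0) 0
    have a01 := congrFun (congrFun e1' 0) 1
    have b00 := congrFun (congrFun e2' 0) 0
    simp [Matrix.mul_apply, Fin.sum_univ_two] at a00 a01 b00
    have hdet := Linear.sl2_det g
    rw [a00] at hdet
    have h11 : (g : M2) 1 1 = (g : M2) 0 0 := by linear_combination a01
    apply Subtype.ext
    ext i j
    fin_cases i <;> fin_cases j <;>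
      simp [Matrix.mul_apply, Fin.sum_univ_two, a00, b00, h11] <;>
      (rw [h11] at hdet; linear_combination hdet)
  · intro u v huv h1 h4
    obtain ⟨g, hg⟩ := sl2_conj_wMat F hF (sl2_neg_one F h2 h1 h4)
    obtain ⟨g', hg'⟩ := sl2_conj_wMat F hF (u := v) (by
      rw [← huv]; exact sl2_neg_one F h2 h1 h4)
    refine ⟨g' * g⁻¹, ?_⟩
    rw [← hg, ← hg']
    group
  · intro u h1 h4
    have hu := sl2_neg_one F h2 h1 h4
    obtain ⟨g, hg⟩ := sl2_conj_wMat F hF hu
    obtain ⟨a, b, hab⟩ := exists_sum_two_squares F hF (-1)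
    obtain ⟨j, hj⟩ : ∃ j : SL2, (j : M2) = !![a, b; b, -a] :=
      ⟨⟨_, by simp [Matrix.det_fin_two]; linear_combination -hab⟩, rfl⟩
    have hj2 : j * j = wMat F * wMat F := by
      apply Subtype.ext
      show (j : M2) * (j : M2) = ((wMat F * wMat F : SL2) : M2)
      rw [wMat_sq, hj]
      ext i k
      fin_cases i <;> fin_cases k <;> simp [Matrix.mul_apply, Fin.sum_univ_two] <;>
        first
          | ring1
          | linear_combination hab
    have hjw : j * wMat F * j⁻¹ = (wMat F)⁻¹ := by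
      rw [mul_inv_eq_iff_eq_mul, eq_inv_mul_iff_mul_eq]
      apply Subtype.ext
      show (wMat F : M2) * ((j : M2) * (wMat F : M2)) = (j : M2)
      rw [hj]
      ext i k
      fin_cases i <;> fin_cases k <;>
        simp [wMat, Matrix.adjugate_fin_two, Matrix.mul_apply, Fin.sum_univ_two]
    refine ⟨g * j * g⁻¹, ?_, ?_⟩
    · rw [← hg, show g * j * g⁻¹ * (g * j * g⁻¹) = g * (j * j) * g⁻¹ by group, hj2]
      group
    · rw [← hg, show g * j * g⁻¹ * (g * wMat F * g⁻¹) * (g * j * g⁻¹)⁻¹ =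
          g * (j * wMat F * j⁻¹) * g⁻¹ by group, hjw]
      group

end ModelLinear

section ModelAlt

local notation "A7" => alternatingGroup (Fin 7)

theorem a7_conj {x : ↥A7} (h1 : x ≠ 1) (h2 : x * x = 1) : ∃ g : ↥A7,
    g * ⟨S0447.d7.a, S0447.d7.ha⟩ * g⁻¹ = x := by
  have hx : (x : Equiv.Perm (Fin 7)).cycleType = {2, 2} :=
    S0447.cycleType_involution le_rfl x.2 (fun h => h1 (Subtype.ext h))
      (by rw [pow_two]; exact congrArg Subtype.val h2)
  obtain ⟨c, hc1, hca⟩ := S0447.d7.odd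
  obtain ⟨d, hd⟩ := isConj_iff.1 (Equiv.Perm.isConj_iff_cycleType_eq.2
    (S0447.d7.hcyc.1.trans hx.symm))
  rcases Int.units_eq_one_or (Equiv.Perm.sign d) with h | h
  · exact ⟨⟨d, Equiv.Perm.mem_alternatingGroup.2 h⟩, Subtype.ext hd⟩
  · refine ⟨⟨d * c, Equiv.Perm.mem_alternatingGroup.2 (by rw [map_mul, hc1, h]; rfl)⟩, Subtype.ext ?_⟩
    show d * c * S0447.d7.a * (d * c)⁻¹ = x
    rw [← hd]
    calc d * c * S0447.d7.a * (d * c)⁻¹ = d * (c * S0447.d7.a) * c⁻¹ * d⁻¹ := by group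
      _ = d * S0447.d7.a * d⁻¹ := by rw [hca]; group

theorem model_2A7 {T : Type*} [Group T] [Finite T] (hT : IsNonsplitDoubleCover T ↥A7)
    (huniq : ∀ u : T, u * u = 1 → u ∈ Subgroup.center T) : Model T := by
  obtain ⟨hc, ⟨e⟩, -⟩ := hT
  let π : T →* ↥A7 := e.toMonoidHom.comp (QuotientGroup.mk' (Subgroup.center T))
  have hsurj : Function.Surjective π := e.surjective.comp (QuotientGroup.mk'_surjective _)
  have hker : ∀ w : T, π w = 1 ↔ w ∈ Subgroup.center T := fun w => by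
    show e (w : T ⧸ Subgroup.center T) = 1 ↔ _
    rw [EmbeddingLike.map_eq_one_iff, QuotientGroup.eq_one_iff]
  have hsq : ∀ a ∈ Subgroup.center T, a * a = 1 := fun a ha => by
    have h := orderOf_dvd_natCard (⟨a, ha⟩ : ↥(Subgroup.center T))
    rw [hc, orderOf_dvd_iff_pow_eq_one] at h
    rw [← pow_two]
    exact congrArg Subtype.val h
  have hpair : ∀ {a b : T}, a ∈ Subgroup.center T → a ≠ 1 → b ∈ Subgroup.center T → b = 1 ∨ b = a := by
    intro a b ha ha1 hb
    obtain ⟨x, y, hxy, huniv⟩ := Nat.card_eq_two_iff.1 hc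
    have hall : ∀ w : ↥(Subgroup.center T), w = x ∨ w = y := fun w => by
      have hw := Set.mem_univ w
      rw [← huniv] at hw
      simpa using hw
    rcases hall 1 with h1 | h1 <;> rcases hall ⟨a, ha⟩ with h2 | h2 <;> rcases hall ⟨b, hb⟩ with h3 | h3
    all_goals first
      | exact Or.inl (congrArg Subtype.val (h3.trans h1.symm))
      | exact Or.inr (congrArg Subtype.val (h3.trans h2.symm))
      | exact absurd (congrArg Subtype.val (h2.trans h1.symm)) ha1
  have hu_inv : ∀ u : T, u * u ≠ 1 → u * u * (u * u) = 1 → π u ≠ 1 ∧ π u * π u = 1 := by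
    intro u h1 h4
    exact ⟨fun h => h1 (hsq u ((hker u).1 h)), by rw [← map_mul, hker]; exact huniq _ h4⟩
  have hlift : ∀ w : T, π w ≠ 1 → π w * π w = 1 → ∀ z : T, z ∈ Subgroup.center T → z ≠ 1 →
      w * w = z := by
    intro w hw hw2 z hz hz1
    refine (hpair hz hz1 ((hker _).1 (by rw [map_mul, hw2]))).resolve_left fun h => hw ?_
    exact (hker w).2 (huniq w h)
  set a₀ : ↥A7 := ⟨S0447.d7.a, S0447.d7.ha⟩ with ha₀
  set b₀ : ↥A7 := ⟨Equiv.swap 0 2 * Equiv.swap 1 3,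
    Equiv.Perm.mem_alternatingGroup.2 (by decide +kernel)⟩ with hb₀
  have hab : b₀ ≠ 1 ∧ b₀ * b₀ = 1 ∧ a₀ * b₀ = b₀ * a₀ ∧ b₀ ≠ a₀ := by
    simp only [ha₀, hb₀, S0447.d7, ne_eq, Subtype.ext_iff, Subgroup.coe_mul, OneMemClass.coe_one]
    decide +kernel
  -- an element inverting a square root of the central involution
  have hanti : ∀ u : T, u * u ≠ 1 → u * u * (u * u) = 1 → ∃ v : T, v * v = u * u ∧ v * u * v⁻¹ = u⁻¹ := by
    intro u h1 h4
    obtain ⟨hu1, hu2⟩ := hu_inv u h1 h4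
    have hzc := huniq _ h4
    obtain ⟨g, hg⟩ := a7_conj hu1 hu2
    obtain ⟨w, hw⟩ := hsurj (g * b₀ * g⁻¹)
    have hw1 : π w ≠ 1 := by rw [hw]; exact fun h => hab.1 (conj_eq_one_iff.1 h)
    have hw2 : π w * π w = 1 := by
      rw [hw, show g * b₀ * g⁻¹ * (g * b₀ * g⁻¹) = g * (b₀ * b₀) * g⁻¹ by group, hab.2.1, mul_one,
        mul_inv_cancel]
    have hww : w * w = u * u := hlift w hw1 hw2 _ hzc h1
    refine ⟨w, hww, ?_⟩
    have hk : u⁻¹ * (w * u * w⁻¹) ∈ Subgroup.center T := by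
      rw [← hker]
      simp only [map_mul, map_inv, hw, ← hg]
      rw [show (g * a₀ * g⁻¹)⁻¹ * (g * b₀ * g⁻¹ * (g * a₀ * g⁻¹) * (g * b₀ * g⁻¹)⁻¹) =
        g * (a₀⁻¹ * (b₀ * a₀) * b₀⁻¹) * g⁻¹ by group, ← hab.2.2.1]
      group
    rcases hpair hzc h1 hk with h | h
    · exfalso
      have hcom : u * w = w * u := (mul_inv_eq_iff_eq_mul.1 (inv_mul_eq_one.1 h).symm).symm
      have huw : (u * w) * (u * w) = 1 := by
        rw [show (u * w) * (u * w) = u * (w * u) * w by group, ← hcom,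
          show u * (u * w) * w = (u * u) * (w * w) by group, hww, h4]
      have h5 := (hker _).2 (huniq _ huw)
      rw [map_mul, hw, ← hg, show g * a₀ * g⁻¹ * (g * b₀ * g⁻¹) = g * (a₀ * b₀) * g⁻¹ by group,
        conj_eq_one_iff] at h5
      refine hab.2.2.2 ?_
      rw [← mul_left_cancel_iff (a := a₀), h5]
      refine (Subtype.ext ?_).symm
      simp only [ha₀, S0447.d7, Subgroup.coe_mul, OneMemClass.coe_one]
      decide +kernel
    · rw [inv_mul_eq_iff_eq_mul] at h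
      rw [h]
      refine (inv_eq_of_mul_eq_one_right ?_).symm
      rw [← mul_assoc]; exact h4
  refine ⟨hsq, ?_, ?_, hanti⟩
  · obtain ⟨x, hx⟩ := hsurj a₀
    have ha : a₀ ≠ 1 ∧ a₀ * a₀ = 1 := by
      simp only [ha₀, S0447.d7, ne_eq, Subtype.ext_iff, Subgroup.coe_mul, OneMemClass.coe_one]
      decide +kernel
    have hxc : x * x ∈ Subgroup.center T := (hker _).1 (by rw [map_mul, hx, ha.2])
    exact ⟨x, fun h => ha.1 (hx ▸ (hker x).2 (huniq x h)), hsq _ hxc⟩
  · intro u v huv h1 h4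
    obtain ⟨hu1, hu2⟩ := hu_inv u h1 h4
    obtain ⟨hv1, hv2⟩ := hu_inv v (huv ▸ h1) (huv ▸ h4)
    obtain ⟨gu, hgu⟩ := a7_conj hu1 hu2
    obtain ⟨gv, hgv⟩ := a7_conj hv1 hv2
    obtain ⟨g, hg⟩ := hsurj (gv * gu⁻¹)
    have hk : v⁻¹ * (g * u * g⁻¹) ∈ Subgroup.center T := by
      rw [← hker]
      simp only [map_mul, map_inv, hg, ← hgu, ← hgv]
      group
    rcases hpair (huniq _ h4) h1 hk with h | h
    · exact ⟨g, (inv_mul_eq_one.1 h).symm⟩
    · obtain ⟨w, -, hw⟩ := hanti v (huv ▸ h1) (huv ▸ h4)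
      refine ⟨w * g, ?_⟩
      rw [inv_mul_eq_iff_eq_mul] at h
      have hvi : v * (u * u) = v⁻¹ := by
        refine (inv_eq_of_mul_eq_one_right ?_).symm
        rw [huv] at h4 ⊢
        rw [← mul_assoc]; exact h4
      calc w * g * u * (w * g)⁻¹ = w * (g * u * g⁻¹) * w⁻¹ := by group
        _ = w * v⁻¹ * w⁻¹ := by rw [h, hvi]
        _ = (w * v * w⁻¹)⁻¹ := by group
        _ = v := by rw [hw, inv_inv]

end ModelAlt

end Cfsg.Agent.Lib.Intrinsic76
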